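import Groth.Agent.Sga2.ExtLoc
import Groth.Agent.Ega4C.DepthExt
import Mathlib.RingTheory.Ideal.AssociatedPrime.Finiteness

/-!
# Vanishing of `Ext^i(T, N)` for finite modules `T` supported in a set `Z` of primes

`ext_van`: if for every `q ∈ Z` every class in `Ext^i(A/q, N)` is killed by an element outside `q`
(the `i`-th Bass number of `N` at `q` vanishes), then `Ext^i(T, N) = 0` for all finite `T` with support
in `Z`.
-/

set_option autoImplicit false
universe u

open CategoryTheory CategoryTheory.Abelian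

namespace K78.BassVan

variable {A : Type u} [CommRing A]

theorem mk_shortExact {M₁ M₂ M₃ : Type u} [AddCommGroup M₁] [AddCommGroup M₂] [AddCommGroup M₃]
    [Module A M₁] [Module A M₂] [Module A M₃] (f : M₁ →ₗ[A] M₂) (g : M₂ →ₗ[A] M₃)
    (hf : Function.Injective f) (hg : Function.Surjective g) (h : Function.Exact f g) :
    (ShortComplex.mk (ModuleCat.ofHom f) (ModuleCat.ofHom g)
      (by ext x; exact (h (f x)).2 ⟨x, rfl⟩)).ShortExact := by
  refine ShortComplex.ShortExact.mk' ?_ ?_ ?_
  · rw [ShortComplex.moduleCat_exact_iff]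
    intro y hy
    exact (h y).1 hy
  · rw [ModuleCat.mono_iff_injective]; exact hf
  · rw [ModuleCat.epi_iff_surjective]; exact hg

theorem subsingleton_of_zero {X Y : ModuleCat.{u} A} {i : ℕ} (h : ∀ x : Ext.{u} X Y i, x = 0) :
    Subsingleton (Ext.{u} X Y i) := ⟨fun a b => (h a).trans (h b).symm⟩

theorem ext_mid {S : ShortComplex (ModuleCat.{u} A)} (hS : S.ShortExact) (Y : ModuleCat.{u} A) (i : ℕ)
    (h1 : Subsingleton (Ext.{u} S.X₁ Y i)) (h3 : Subsingleton (Ext.{u} S.X₃ Y i)) :
    Subsingleton (Ext.{u} S.X₂ Y i) := by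
  refine subsingleton_of_zero fun x => ?_
  obtain ⟨y, rfl⟩ := Ext.contravariant_sequence_exact₂ hS Y x (Subsingleton.elim _ _)
  rw [Subsingleton.elim y 0, Ext.comp_zero]

theorem ext_of_subsingleton (T : Type u) [AddCommGroup T] [Module A T] [Subsingleton T] (Y : ModuleCat.{u} A)
    (i : ℕ) : Subsingleton (Ext.{u} (ModuleCat.of A T) Y i) := by
  have hz : 𝟙 (ModuleCat.of A T) = 0 := (ModuleCat.isZero_of_subsingleton (ModuleCat.of A T)).eq_of_src _ _
  refine subsingleton_of_zero fun α => ?_
  rw [← Ext.mk₀_id_comp α, hz, Ext.mk₀_zero, Ext.zero_comp]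

variable [IsNoetherianRing A] (N : Type u) [AddCommGroup N] [Module A N] (i : ℕ)

theorem ext_of_primes (Z : Set (PrimeSpectrum A))
    (h : ∀ q ∈ Z, Subsingleton (Ext.{u} (ModuleCat.of A (A ⧸ q.asIdeal)) (ModuleCat.of A N) i))
    (T : Type u) [AddCommGroup T] [Module A T] [hT : Module.Finite A T] (hs : Module.support A T ⊆ Z) :
    Subsingleton (Ext.{u} (ModuleCat.of A T) (ModuleCat.of A N) i) := by
  revert hs
  refine IsNoetherianRing.induction_on_isQuotientEquivQuotientPrime A (M := T) hT
    (motive := fun T _ _ _ => Module.support A T ⊆ Z →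
      Subsingleton (Ext.{u} (ModuleCat.of A T) (ModuleCat.of A N) i)) ?_ ?_ ?_
  · intro T _ _ _ _ _
    exact ext_of_subsingleton T _ _
  · intro T _ _ _ q e hs
    have hq : q ∈ Z := by
      apply hs
      have h1 : Nontrivial (A ⧸ q.asIdeal) := Ideal.Quotient.nontrivial_iff.2 q.2.ne_top
      rw [LinearEquiv.support_eq e, Module.support_eq_zeroLocus, Ideal.annihilator_quotient]
      exact fun x hx => hx
    exact (Groth.Agent.Sga2.ExtLoc.ext_subsingleton_congr (LinearEquiv.toModuleIso e) (Iso.refl _) i).2 (h q hq)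
  · intro T₁ _ _ _ T₂ _ _ _ T₃ _ _ _ f g hf hg hfg h1 h3 hs
    refine ext_mid (mk_shortExact f g hf hg hfg) _ i (h1 ?_) (h3 ?_)
    · exact (Module.support_subset_of_injective f hf).trans hs
    · exact (Module.support_subset_of_surjective g hg).trans hs

/-- Every class in `Ext^i(A/q, N)` is killed by an element outside `q`. -/
def Mu0 (q : PrimeSpectrum A) : Prop :=
  ∀ x : Ext.{u} (ModuleCat.of A (A ⧸ q.asIdeal)) (ModuleCat.of A N) i, ∃ s ∉ q.asIdeal, s • x = 0

theorem ext_prime (Z : Set (PrimeSpectrum A)) (hZ : ∀ q ∈ Z, ∀ q' : PrimeSpectrum A, q ≤ q' → q' ∈ Z)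
    (h : ∀ q ∈ Z, Mu0 N i q) (q : PrimeSpectrum A) (hq : q ∈ Z) :
    Subsingleton (Ext.{u} (ModuleCat.of A (A ⧸ q.asIdeal)) (ModuleCat.of A N) i) := by
  have hwf : WellFounded (fun a b : Ideal A => b < a) := IsWellFounded.wf
  induction hI : q.asIdeal using hwf.induction generalizing q with
  | _ I ih =>
    subst hI
    -- elements outside `q` act injectively
    have key : ∀ s ∉ q.asIdeal, ∀ x : Ext.{u} (ModuleCat.of A (A ⧸ q.asIdeal)) (ModuleCat.of A N) i,
        s • x = 0 → x = 0 := by
      intro s hs x hx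
      let f : (A ⧸ q.asIdeal) →ₗ[A] (A ⧸ q.asIdeal) := LinearMap.lsmul A _ s
      let J : Ideal A := q.asIdeal ⊔ Ideal.span {s}
      let g : (A ⧸ q.asIdeal) →ₗ[A] (A ⧸ J) := Submodule.factor (le_sup_left)
      have hf : Function.Injective f := by
        rw [injective_iff_map_eq_zero]
        intro a ha
        obtain ⟨a, rfl⟩ := Ideal.Quotient.mk_surjective a
        have h1 : (Ideal.Quotient.mk q.asIdeal) (s * a) = 0 := ha
        rw [Ideal.Quotient.eq_zero_iff_mem] at h1 ⊢
        exact (q.2.mem_or_mem h1).resolve_left hs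
      have hg : Function.Surjective g := Submodule.factor_surjective _
      have hfg : Function.Exact f g := by
        intro a
        obtain ⟨a, rfl⟩ := Ideal.Quotient.mk_surjective a
        constructor
        · intro ha
          have h1 : (Ideal.Quotient.mk J) a = 0 := ha
          rw [Ideal.Quotient.eq_zero_iff_mem, Submodule.mem_sup] at h1
          obtain ⟨b, hb, c, hc, rfl⟩ := h1
          obtain ⟨c, rfl⟩ := Ideal.mem_span_singleton.1 hc
          refine ⟨Ideal.Quotient.mk _ c, ?_⟩
          change (Ideal.Quotient.mk q.asIdeal) (s * c) = _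
          rw [map_add, Ideal.Quotient.eq_zero_iff_mem.2 hb, zero_add]
        · rintro ⟨c, hc⟩
          obtain ⟨c, rfl⟩ := Ideal.Quotient.mk_surjective c
          have h1 : (Ideal.Quotient.mk q.asIdeal) (s * c) = Ideal.Quotient.mk q.asIdeal a := hc
          change (Ideal.Quotient.mk J) a = 0
          rw [Ideal.Quotient.eq] at h1
          rw [Ideal.Quotient.eq_zero_iff_mem]
          have h2 : s * c ∈ J := J.mul_mem_right _ (Ideal.mem_sup_right (Ideal.mem_span_singleton_self s))
          have h3 := J.sub_mem h2 (Ideal.mem_sup_left h1)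
          simpa using h3
      have hS := mk_shortExact f g hf hg hfg
      have h3 : Subsingleton (Ext.{u} (ModuleCat.of A (A ⧸ J)) (ModuleCat.of A N) i) := by
        refine ext_of_primes N i {q' | q' ∈ Z ∧ q.asIdeal < q'.asIdeal} ?_ (A ⧸ J) ?_
        · rintro q' ⟨hq', hlt⟩
          exact ih q'.asIdeal hlt q' hq' rfl
        · intro q' hq'
          rw [Module.support_eq_zeroLocus, Ideal.annihilator_quotient] at hq'
          have h4 : J ≤ q'.asIdeal := hq'
          have h5 : q.asIdeal ≤ q'.asIdeal := le_sup_left.trans h4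
          refine ⟨hZ q hq q' h5, lt_of_le_of_ne h5 ?_⟩
          intro h6
          apply hs
          rw [h6]
          exact h4 (Ideal.mem_sup_right (Ideal.mem_span_singleton_self s))
      have h5 : (Ext.mk₀ (ModuleCat.ofHom f)).comp x (zero_add i) = 0 := by
        have h6 : (ModuleCat.ofHom f : ModuleCat.of A (A ⧸ q.asIdeal) ⟶ _) = s • 𝟙 _ := by
          ext; rfl
        rw [h6, Ext.mk₀_smul, Ext.smul_comp, Ext.mk₀_id_comp, hx]
      obtain ⟨y, rfl⟩ := Ext.contravariant_sequence_exact₂ hS _ x h5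
      rw [Subsingleton.elim y 0, Ext.comp_zero]
    refine subsingleton_of_zero fun x => ?_
    obtain ⟨s, hs, hx⟩ := h q hq x
    exact key s hs x hx

/-- Vanishing of `Ext^i(T, N)` for finite `T` supported in a specialization stable set where the `i`-th
Bass numbers vanish. -/
theorem ext_van (Z : Set (PrimeSpectrum A)) (hZ : ∀ q ∈ Z, ∀ q' : PrimeSpectrum A, q ≤ q' → q' ∈ Z)
    (h : ∀ q ∈ Z, Mu0 N i q) (T : Type u) [AddCommGroup T] [Module A T] [Module.Finite A T]
    (hs : Module.support A T ⊆ Z) : Subsingleton (Ext.{u} (ModuleCat.of A T) (ModuleCat.of A N) i) :=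
  ext_of_primes N i Z (fun q hq => ext_prime N i Z hZ h q hq) T hs

end K78.BassVan
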