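import Groth.Agent.Coherent.K78.BassVan
import Groth.Agent.GrLC.K760.ExtLen
import Groth.Agent.EGA43.K122.RectDepth
import Groth.Agent.Fdesc.StructMod
import Groth.Agent.S0563
import Groth.Agent.S5671

/-!
# Vanishing of Bass numbers from depth and from regularity
-/

set_option autoImplicit false
universe u

open CategoryTheory CategoryTheory.Limits CategoryTheory.Abelian AlgebraicGeometry Opposite TopologicalSpace
  IsLocalRing

namespace K78.Bridge

open K78.BassVan Groth.Agent.Sga2.ExtLoc

section Alg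

theorem exists_dim (A : Type u) [CommRing A] [IsLocalRing A] [IsNoetherianRing A] :
    ∃ k : ℕ, ringKrullDim A = k := by
  have hlt : ringKrullDim A < ⊤ := ringKrullDim_lt_top
  have h0 : (0 : WithBot ℕ∞) ≤ ringKrullDim A := ringKrullDim_nonneg_of_nontrivial
  generalize ringKrullDim A = x at h0 hlt
  induction x with
  | bot => simp at h0
  | coe a =>
    induction a with
    | top => exact absurd hlt (lt_irrefl _)
    | coe n => exact ⟨n, rfl⟩

variable {A : Type u} [CommRing A] [IsNoetherianRing A] (q : PrimeSpectrum A)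

theorem mu0_iff (N : Type u) [AddCommGroup N] [Module A N] (i : ℕ) : Mu0 N i q ↔
    Subsingleton (Ext.{u} (ModuleCat.of (Localization.AtPrime q.asIdeal)
      (Localization.AtPrime q.asIdeal ⧸ maximalIdeal (Localization.AtPrime q.asIdeal)))
      (ModuleCat.of (Localization.AtPrime q.asIdeal) (LocalizedModule q.asIdeal.primeCompl N)) i) := by
  refine Iff.trans ?_ (ext_subsingleton_congr (K760.ExtLen.residueEquiv q.asIdeal).toModuleIso (Iso.refl _) i)
  refine Iff.trans ?_ (subsingleton_localized_iff q (A ⧸ q.asIdeal) N i).symm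
  rw [Module.notMem_support_iff']
  exact Iff.rfl

omit [IsNoetherianRing A] in
theorem mu0_congr {N N' : Type u} [AddCommGroup N] [Module A N] [AddCommGroup N'] [Module A N']
    (e : N ≃ₗ[A] N') (i : ℕ) (h : Mu0 N i q) : Mu0 N' i q := by
  intro x
  obtain ⟨s, hs, h1⟩ := h (x.comp (Ext.mk₀ (ModuleCat.ofHom e.symm.toLinearMap)) (add_zero i))
  refine ⟨s, hs, ?_⟩
  have h2 : (s • x).comp (Ext.mk₀ (ModuleCat.ofHom e.symm.toLinearMap)) (add_zero i) = 0 := by
    rw [Ext.smul_comp, h1]
  have h3 := congrArg (fun y => y.comp (Ext.mk₀ (ModuleCat.ofHom e.toLinearMap)) (add_zero i)) h2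
  have h4 : (ModuleCat.ofHom e.symm.toLinearMap) ≫ (ModuleCat.ofHom e.toLinearMap) =
      𝟙 (ModuleCat.of A N') := by
    ext x
    exact e.apply_symm_apply x
  simp only [Ext.comp_assoc_of_third_deg_zero, Ext.mk₀_comp_mk₀, h4, Ext.comp_mk₀_id, Ext.zero_comp] at h3
  exact h3

theorem mu0_of_depth (N : Type u) [AddCommGroup N] [Module A N] [Module.Finite A N] (n i : ℕ) (hi : i < n)
    (h : (n : ℕ∞) ≤ LocCoh.depth (Localization.AtPrime q.asIdeal) (LocalizedModule q.asIdeal.primeCompl N)) :
    Mu0 N i q := by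
  rw [mu0_iff]
  exact (Groth.Agent.Ega4C.DepthExt.natCast_le_depth_iff_ext _ n).1 h i hi

theorem mu0_of_regular (N : Type u) [AddCommGroup N] [Module A N] (i : ℕ)
    (hreg : IsRegularLocalRing (Localization.AtPrime q.asIdeal))
    (hd : ringKrullDim (Localization.AtPrime q.asIdeal) < (i : WithBot ℕ∞)) : Mu0 N i q := by
  rw [mu0_iff]
  obtain ⟨d, hd'⟩ := exists_dim (Localization.AtPrime q.asIdeal)
  rw [hd'] at hd
  have hlt : d < i := by exact_mod_cast hd
  have := Groth.Agent.S0563.result (Localization.AtPrime q.asIdeal) d hd'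
    (Localization.AtPrime q.asIdeal ⧸ maximalIdeal (Localization.AtPrime q.asIdeal))
  exact this.subsingleton _ (d + 1) i (by omega) _

theorem mu0_self (i : ℕ) (hreg : IsRegularLocalRing (Localization.AtPrime q.asIdeal))
    (hd : ringKrullDim (Localization.AtPrime q.asIdeal) ≠ (i : WithBot ℕ∞)) : Mu0 A i q := by
  obtain ⟨d, hd'⟩ := exists_dim (Localization.AtPrime q.asIdeal)
  rw [hd'] at hd
  have hne : d ≠ i := by
    rintro rfl
    exact hd rfl
  rcases lt_or_gt_of_ne hne with h | h
  · refine mu0_of_regular q A i hreg ?_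
    rw [hd']
    exact_mod_cast h
  · rw [mu0_iff, ext_subsingleton_congr (Iso.refl _) (ringEquiv q.asIdeal.primeCompl).toModuleIso i]
    refine Groth.Agent.S5671.result (Localization.AtPrime q.asIdeal) _ d ?_ i h
    have h0 : Module.supportDim (Localization.AtPrime q.asIdeal)
        (Localization.AtPrime q.asIdeal ⧸ maximalIdeal (Localization.AtPrime q.asIdeal)) = 0 := by
      rw [Module.supportDim_quotient_eq_ringKrullDim]
      have hf : IsField (Localization.AtPrime q.asIdeal ⧸ maximalIdeal (Localization.AtPrime q.asIdeal)) :=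
        (Ideal.Quotient.maximal_ideal_iff_isField_quotient _).1 inferInstance
      exact ringKrullDim_eq_zero_of_isField hf
    rw [h0, hd', zero_add]

end Alg

section Geo

variable {X : Scheme.{u}} {V : X.Opens} (hV : IsAffineOpen V) (x : X) (hx : x ∈ V)

/-- The stalk is the localization of the ring of sections. -/
noncomputable def stalkEquiv : X.presheaf.stalk x ≃+* Localization.AtPrime (hV.primeIdealOf ⟨x, hx⟩).asIdeal :=
  letI := Groth.Agent.Divis.StalkMod.stalkAlg x hx
  haveI : IsLocalization.AtPrime (X.presheaf.stalk x) (hV.primeIdealOf ⟨x, hx⟩).asIdeal :=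
    hV.isLocalization_stalk ⟨x, hx⟩
  (IsLocalization.algEquiv (hV.primeIdealOf ⟨x, hx⟩).asIdeal.primeCompl (X.presheaf.stalk x)
    (Localization.AtPrime (hV.primeIdealOf ⟨x, hx⟩).asIdeal)).toRingEquiv

theorem regular_iff (h : IsRegularLocalRing (X.presheaf.stalk x)) :
    IsRegularLocalRing (Localization.AtPrime (hV.primeIdealOf ⟨x, hx⟩).asIdeal) :=
  IsRegularLocalRing.of_ringEquiv (stalkEquiv hV x hx)

theorem dim_eq : ringKrullDim (X.presheaf.stalk x) =
    ringKrullDim (Localization.AtPrime (hV.primeIdealOf ⟨x, hx⟩).asIdeal) :=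
  ringKrullDim_eq_of_ringEquiv (stalkEquiv hV x hx)

variable [IsLocallyNoetherian X]

theorem mu0_depth {G : X.Modules} (hG : Coh.IsCoh G) (n i : ℕ) (hi : i < n)
    (h : (n : ℕ∞) ≤ LocCoh.depth (X.presheaf.stalk x) (G.presheaf.stalk x)) :
    Mu0 Γ(G, V) i (hV.primeIdealOf ⟨x, hx⟩) := by
  have hA : IsNoetherianRing Γ(X, V) := IsLocallyNoetherian.component_noetherian ⟨V, hV⟩
  have hfin := Groth.Agent.Divis.StalkMod.finite_sections hG hV
  rw [(K122.RectDepth.stalk_eq G hG.1 hV x hx).1] at h
  exact mu0_of_depth _ _ n i hi h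

theorem mu0_regular (G : X.Modules) (i : ℕ) (h : IsRegularLocalRing (X.presheaf.stalk x))
    (hd : ringKrullDim (X.presheaf.stalk x) < (i : WithBot ℕ∞)) :
    Mu0 Γ(G, V) i (hV.primeIdealOf ⟨x, hx⟩) := by
  have hA : IsNoetherianRing Γ(X, V) := IsLocallyNoetherian.component_noetherian ⟨V, hV⟩
  rw [dim_eq hV x hx] at hd
  exact mu0_of_regular _ _ i (regular_iff hV x hx h) hd

theorem mu0_structure (i : ℕ) (h : IsRegularLocalRing (X.presheaf.stalk x))
    (hd : ringKrullDim (X.presheaf.stalk x) ≠ (i : WithBot ℕ∞)) :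
    Mu0 Γ(Coh.structureModule X, V) i (hV.primeIdealOf ⟨x, hx⟩) := by
  have hA : IsNoetherianRing Γ(X, V) := IsLocallyNoetherian.component_noetherian ⟨V, hV⟩
  rw [dim_eq hV x hx] at hd
  exact mu0_congr _ (Groth.Agent.Fdesc.StructMod.sectionsEquiv V).symm i
    (mu0_self _ i (regular_iff hV x hx h) hd)

end Geo

end K78.Bridge
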