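import Groth.Agent.Coherent.K78.QcRes
import Groth.Agent.PerfA.QCohEpi
import Groth.Agent.PerfA.QCohSerre
import Groth.Agent.PerfA.PCohQCoh

/-!
# Sections over an affine open of the cohomology of a complex of quasi-coherent modules
-/

set_option autoImplicit false
universe u

open CategoryTheory CategoryTheory.Limits AlgebraicGeometry Opposite TopologicalSpace

namespace K78.Cox

open K78.QcRes

variable {X : Scheme.{u}} (K : CochainComplex X.Modules ℕ)

theorem app_comp {A B C : X.Modules} (f : A ⟶ B) (g : B ⟶ C) (V : X.Opens) (a : Γ(A, V)) :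
    (f ≫ g).app V a = g.app V (f.app V a) := rfl

theorem isQCoh_cycles (hK : ∀ p, Coh.IsQCoh (K.X p)) (q : ℕ) : Coh.IsQCoh (K.cycles q) :=
  Groth.Agent.PerfA.QCohSerre.isQCoh_of_iso ((K.sc q).cyclesIsoKernel).symm
    (Groth.Agent.PerfA.QCohSerre.isQCoh_kernel _ (hK _) (hK _))

theorem isQCoh_homology (hK : ∀ p, Coh.IsQCoh (K.X p)) (q : ℕ) : Coh.IsQCoh (K.homology q) :=
  Groth.Agent.PerfA.PCohQCoh.isQCoh_homology (K.sc q) (hK _) (hK _) (hK _)

theorem iCycles_injective (q : ℕ) (V : X.Opens) : Function.Injective ((K.iCycles q).app V) :=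
  Groth.Agent.FormalB.KQuot.injective_app_of_mono (K.iCycles q) V

theorem d_iCycles (q j : ℕ) (V : X.Opens) (z : Γ(K.cycles q, V)) :
    (K.d q j).app V ((K.iCycles q).app V z) = 0 := by
  rw [← app_comp, K.iCycles_d]
  rfl

theorem exists_cycle (q j : ℕ) (hj : (ComplexShape.up ℕ).next q = j) {V : X.Opens} (k : Γ(K.X q, V))
    (h : (K.d q j).app V k = 0) : ∃ z : Γ(K.cycles q, V), (K.iCycles q).app V z = k := by
  obtain ⟨t, rfl⟩ := Groth.Agent.Sga67.IdealTorsion.exists_kernel_ι (K.d q j) V k h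
  refine ⟨(K.liftCycles (kernel.ι (K.d q j)) j hj (kernel.condition _)).app V t, ?_⟩
  rw [← app_comp, K.liftCycles_i]

theorem π_surjective (hK : ∀ p, Coh.IsQCoh (K.X p)) (q : ℕ) {V : X.Opens} (hV : IsAffineOpen V) :
    Function.Surjective ((K.homologyπ q).app V) := by
  have := isQCoh_cycles K hK q
  have := isQCoh_homology K hK q
  exact Groth.Agent.PerfA.QCohEpi.app_surjective_of_epi (K.homologyπ q) hV

theorem π_eq_zero_iff (hK : ∀ p, Coh.IsQCoh (K.X p)) (p q : ℕ) (hp : (ComplexShape.up ℕ).prev q = p)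
    {V : X.Opens} (hV : IsAffineOpen V) (z : Γ(K.cycles q, V)) : (K.homologyπ q).app V z = 0 ↔
      ∃ k : Γ(K.X p, V), (K.d p q).app V k = (K.iCycles q).app V z := by
  constructor
  · intro h
    have hc := K.homologyIsCokernel p q hp
    have hex : (ShortComplex.mk (K.toCycles p q) (K.homologyπ q)
        (K.toCycles_comp_homologyπ p q)).Exact := ShortComplex.exact_of_g_is_cokernel _ hc
    obtain ⟨t, ht⟩ := Groth.Agent.FormalB.TrSys.exists_of_exact (hK _) (isQCoh_cycles K hK q)
      (isQCoh_homology K hK q) _ _ _ hex hV z h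
    refine ⟨t, ?_⟩
    rw [← ht, ← app_comp, K.toCycles_i]
  · rintro ⟨k, hk⟩
    have h1 : z = (K.toCycles p q).app V k := by
      apply iCycles_injective K q V
      rw [← hk, ← app_comp, K.toCycles_i]
    rw [h1, ← app_comp, K.toCycles_comp_homologyπ]
    rfl

/-- The submodule of cocycles on sections. -/
noncomputable def Z (q : ℕ) (V : X.Opens) : Submodule Γ(X, V) Γ(K.X q, V) :=
  LinearMap.ker (appLin (K.d q (q + 1)) V)

theorem mem_Z {q : ℕ} {V : X.Opens} {k : Γ(K.X q, V)} : k ∈ Z K q V ↔ (K.d q (q + 1)).app V k = 0 := Iff.rfl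

theorem exists_cyc (q : ℕ) (V : X.Opens) (k : Z K q V) :
    ∃ z : Γ(K.cycles q, V), (K.iCycles q).app V z = k.1 :=
  exists_cycle K q (q + 1) (by simp) k.1 k.2

/-- The cocycles on sections are the sections of the sheaf of cocycles. -/
noncomputable def cycEquiv (q : ℕ) (V : X.Opens) : Γ(K.cycles q, V) ≃ₗ[Γ(X, V)] Z K q V :=
  LinearEquiv.ofBijective ((appLin (K.iCycles q) V).codRestrict (Z K q V) fun z => d_iCycles K q (q + 1) V z)
    ⟨fun a b h => iCycles_injective K q V (congrArg Subtype.val h), fun k => by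
      obtain ⟨z, hz⟩ := exists_cyc K q V k
      exact ⟨z, Subtype.ext hz⟩⟩

theorem cycEquiv_apply (q : ℕ) (V : X.Opens) (z : Γ(K.cycles q, V)) :
    (cycEquiv K q V z : Γ(K.X q, V)) = (K.iCycles q).app V z := rfl

/-- The class of a cocycle. -/
noncomputable def cls (q : ℕ) (V : X.Opens) : Z K q V →ₗ[Γ(X, V)] Γ(K.homology q, V) :=
  (appLin (K.homologyπ q) V).comp (cycEquiv K q V).symm.toLinearMap

theorem cls_surjective (hK : ∀ p, Coh.IsQCoh (K.X p)) (q : ℕ) {V : X.Opens} (hV : IsAffineOpen V) :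
    Function.Surjective (cls K q V) :=
  (π_surjective K hK q hV).comp (cycEquiv K q V).symm.surjective

theorem cls_eq_zero_iff (hK : ∀ p, Coh.IsQCoh (K.X p)) (p q : ℕ) (hp : (ComplexShape.up ℕ).prev q = p)
    {V : X.Opens} (hV : IsAffineOpen V) (z : Z K q V) : cls K q V z = 0 ↔
      ∃ k : Γ(K.X p, V), (K.d p q).app V k = z.1 := by
  obtain ⟨w, rfl⟩ := (cycEquiv K q V).surjective z
  have h1 : cls K q V (cycEquiv K q V w) = (K.homologyπ q).app V w := by
    change appLin (K.homologyπ q) V ((cycEquiv K q V).symm (cycEquiv K q V w)) = _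
    rw [LinearEquiv.symm_apply_apply]
    rfl
  rw [h1, π_eq_zero_iff K hK p q hp hV]
  rfl

end K78.Cox
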