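import Groth.Agent.Coherent.K78.ExtShAff
import Groth.Agent.CohGab.K806.SerreGen
import Mathlib.RingTheory.Depth.Rees

/-!
# Depth along a closed subset and vanishing of the local Ext sheaves
-/

set_option autoImplicit false
universe u

open CategoryTheory CategoryTheory.Limits CategoryTheory.Abelian AlgebraicGeometry Opposite TopologicalSpace
  IsLocalRing

namespace K78.DepthSh

open K78.QcRes K78.BassVan K78.Bridge K78.ExtZMain K78.ExtShAff Groth.Agent.Sga2.ExtLoc

/-- Rees: vanishing of `Ext^i(M, N)` for `i < n` bounds the depth of `N` at the points of the support of `M`. -/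
theorem le_depth_of_ext {A : Type u} [CommRing A] [IsNoetherianRing A] (q : PrimeSpectrum A)
    (M N : Type u) [AddCommGroup M] [Module A M] [Module.Finite A M] [AddCommGroup N] [Module A N]
    [Module.Finite A N] (hq : q ∈ Module.support A M) (n : ℕ)
    (h : ∀ i < n, Subsingleton (Ext.{u} (ModuleCat.of A M) (ModuleCat.of A N) i)) :
    (n : ℕ∞) ≤ LocCoh.depth (Localization.AtPrime q.asIdeal) (LocalizedModule q.asIdeal.primeCompl N) := by
  have hloc : ∀ i < n, Subsingleton (Ext.{u} (ModuleCat.of (Localization.AtPrime q.asIdeal)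
      (LocalizedModule q.asIdeal.primeCompl M)) (ModuleCat.of (Localization.AtPrime q.asIdeal)
      (LocalizedModule q.asIdeal.primeCompl N)) i) := by
    intro i hi
    have := h i hi
    refine (subsingleton_localized_iff q M N i).2 ?_
    rw [Module.notMem_support_iff']
    intro x
    exact ⟨1, q.asIdeal.primeCompl.one_mem, Subsingleton.elim _ _⟩
  have hM : Nontrivial (LocalizedModule q.asIdeal.primeCompl M) := Module.mem_support_iff.1 hq
  rcases subsingleton_or_nontrivial (LocalizedModule q.asIdeal.primeCompl N) with hN | hN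
  · rw [Groth.Agent.Ega4C.DepthExt.depth_eq_top_of_subsingleton]
    exact le_top
  · let I : Ideal (Localization.AtPrime q.asIdeal) :=
      Module.annihilator (Localization.AtPrime q.asIdeal) (LocalizedModule q.asIdeal.primeCompl M)
    have hI : I ≤ maximalIdeal (Localization.AtPrime q.asIdeal) := by
      refine IsLocalRing.le_maximalIdeal ?_
      intro h1
      have h2 : (1 : Localization.AtPrime q.asIdeal) ∈ I := by rw [h1]; trivial
      obtain ⟨x, hx⟩ := exists_ne (0 : LocalizedModule q.asIdeal.primeCompl M)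
      apply hx
      rw [← one_smul (Localization.AtPrime q.asIdeal) x]
      exact Module.mem_annihilator.1 h2 x
    have hlt : maximalIdeal (Localization.AtPrime q.asIdeal) •
        (⊤ : Submodule (Localization.AtPrime q.asIdeal) (LocalizedModule q.asIdeal.primeCompl N)) < ⊤ :=
      Groth.Agent.Ega4C.DepthExt.smul_top_lt_top _
    have hlt' : I • (⊤ : Submodule (Localization.AtPrime q.asIdeal)
        (LocalizedModule q.asIdeal.primeCompl N)) < ⊤ :=
      lt_of_le_of_lt (Submodule.smul_mono_left hI) hlt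
    obtain ⟨rs, h1, h2, h3⟩ := ModuleCat.exists_isRegular_of_exists_subsingleton_ext I n
      (ModuleCat.of (Localization.AtPrime q.asIdeal) (LocalizedModule q.asIdeal.primeCompl N)) hlt'
      (ModuleCat.of (Localization.AtPrime q.asIdeal) (LocalizedModule q.asIdeal.primeCompl M))
      (Module.support_eq_zeroLocus) hloc
    exact (Groth.Agent.Ega4C.DepthExt.natCast_le_depth_iff_exists _ n).2
      ⟨rs, h1, h3.toIsWeaklyRegular, fun r hr => hI (h2 r hr)⟩

variable {X : Scheme.{u}} [IsLocallyNoetherian X] [HasInjectiveResolutions (ModSite.Mod X.sheaf)]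

theorem subsingleton_ext_of_isZero {F G : X.Modules} [ModSite.HasSheafHom (O := X.sheaf) F] (hF : Coh.IsCoh F)
    (hG : Coh.IsQCoh G) (i : ℕ) (h : IsZero ((ModSite.extSh (O := X.sheaf) F i).obj G)) {V : X.Opens}
    (hV : IsAffineOpen V) :
    Subsingleton (Ext.{u} (ModuleCat.of Γ(X, V) Γ(F, V)) (ModuleCat.of Γ(X, V) Γ(G, V)) i) := by
  obtain ⟨e⟩ := nonempty_sections_equiv hF hG i hV
  have hz : IsZero ((secF V).obj ((ModSite.extSh (O := X.sheaf) F i).obj G)) := (secF V).map_isZero h
  have h1 : Subsingleton Γ((ModSite.extSh (O := X.sheaf) F i).obj G, V) :=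
    ModuleCat.subsingleton_of_isZero hz
  exact e.symm.toEquiv.subsingleton

theorem isZero_of_subsingleton_ext {F G : X.Modules} [ModSite.HasSheafHom (O := X.sheaf) F] (hF : Coh.IsCoh F)
    (hG : Coh.IsQCoh G) (i : ℕ) (h : ∀ V : X.Opens, IsAffineOpen V →
      Subsingleton (Ext.{u} (ModuleCat.of Γ(X, V) Γ(F, V)) (ModuleCat.of Γ(X, V) Γ(G, V)) i)) :
    IsZero ((ModSite.extSh (O := X.sheaf) F i).obj G) := by
  refine Groth.Agent.PerfA.GenPull.isZero_of_affine_sections _ (isQCoh_extSh hF hG i) fun x => ?_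
  obtain ⟨V, hV, hx⟩ := Groth.Agent.Divis.StalkMod.exists_affine x
  refine ⟨V, hV, hx, fun s => ?_⟩
  obtain ⟨e⟩ := nonempty_sections_equiv hF hG i hV
  have := h V hV
  exact e.injective (Subsingleton.elim _ _)

/-- Vanishing of `ℰxt^i(G, F)` for `i < n` with `supp G ∋ x` implies `depth F_x ≥ n`. -/
theorem le_depth {F G : X.Modules} [ModSite.HasSheafHom (O := X.sheaf) G] (hF : Coh.IsCoh F)
    (hG : Coh.IsCoh G) (n : ℕ) (h : ∀ i < n, IsZero ((ModSite.extSh (O := X.sheaf) G i).obj F))
    (x : X) (hx : x ∈ CohB1.support G) :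
    (n : ℕ∞) ≤ LocCoh.depth (X.presheaf.stalk x) (F.presheaf.stalk x) := by
  obtain ⟨V, hV, hxV⟩ := Groth.Agent.Divis.StalkMod.exists_affine x
  have hA : IsNoetherianRing Γ(X, V) := IsLocallyNoetherian.component_noetherian ⟨V, hV⟩
  have hfF := Groth.Agent.Divis.StalkMod.finite_sections hF hV
  have hfG := Groth.Agent.Divis.StalkMod.finite_sections hG hV
  rw [(K122.RectDepth.stalk_eq F hF.1 hV x hxV).1]
  exact le_depth_of_ext _ Γ(G, V) Γ(F, V) ((mem_support_iff G hG.1 hV x hxV).1 hx) n
    fun i hi => subsingleton_ext_of_isZero hG hF.1 i (h i hi) hV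

/-- If `depth F_x ≥ n` on `supp G` then `ℰxt^i(G, F) = 0` for `i < n`. -/
theorem isZero_of_depth {F G : X.Modules} [ModSite.HasSheafHom (O := X.sheaf) G] (hF : Coh.IsCoh F)
    (hG : Coh.IsCoh G) (n : ℕ)
    (h : ∀ x ∈ CohB1.support G, (n : ℕ∞) ≤ LocCoh.depth (X.presheaf.stalk x) (F.presheaf.stalk x))
    (i : ℕ) (hi : i < n) : IsZero ((ModSite.extSh (O := X.sheaf) G i).obj F) := by
  refine isZero_of_subsingleton_ext hG hF.1 i fun V hV => ?_
  have hA : IsNoetherianRing Γ(X, V) := IsLocallyNoetherian.component_noetherian ⟨V, hV⟩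
  have hfF := Groth.Agent.Divis.StalkMod.finite_sections hF hV
  have hfG := Groth.Agent.Divis.StalkMod.finite_sections hG hV
  refine ext_van Γ(F, V) i (Module.support Γ(X, V) Γ(G, V)) ?_ ?_ Γ(G, V) subset_rfl
  · intro q hq q' hq'
    exact Module.mem_support_mono hq' hq
  · intro q hq
    obtain ⟨x, hx, rfl⟩ := exists_point hV q
    exact mu0_depth hV x hx hF n i hi (h x ((mem_support_iff G hG.1 hV x hx).2 hq))

end K78.DepthSh
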