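import Groth.Agent.Coherent.K78.ExtZMain

/-!
# The local Ext sheaves on a locally Noetherian scheme, over affine opens

`nonempty_sections_equiv`: for `F` coherent, `G` quasi-coherent and `V` affine,
`Γ(V, ℰxt^i(F, G)) = Ext^i_A(F(V), G(V))`, `A = Γ(X, V)`, linearly.
-/

set_option autoImplicit false
universe u

open CategoryTheory CategoryTheory.Limits CategoryTheory.Abelian AlgebraicGeometry Opposite TopologicalSpace

namespace K78.ExtShAff

open K78.QcRes K78.TorsCx K78.TorsFin K78.ExtZ K78.BassVan K78.Bridge K50.SectOn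
  Groth.Agent.Dcoh.MonClosed Groth.Agent.CohqB.HomSheaf

section Alg

variable {A : Type u} [CommRing A] {N : Type u} [AddCommGroup N] [Module A N]
  (R : InjectiveResolution (ModuleCat.of A N)) (M : Type u) [AddCommGroup M] [Module A M]

/-- The cocycles. -/
def ZH (i : ℕ) : Submodule A (M →ₗ[A] R.cocomplex.X i) where
  carrier := {φ | (dl R i (i + 1)).comp φ = 0}
  zero_mem' := LinearMap.comp_zero _
  add_mem' := by
    rintro φ ψ h2 h4
    change (dl R i (i + 1)).comp (φ + ψ) = 0
    rw [LinearMap.comp_add, show (dl R i (i + 1)).comp φ = 0 from h2,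
      show (dl R i (i + 1)).comp ψ = 0 from h4, add_zero]
  smul_mem' := by
    rintro a φ h2
    change (dl R i (i + 1)).comp (a • φ) = 0
    rw [LinearMap.comp_smul, show (dl R i (i + 1)).comp φ = 0 from h2, smul_zero]

variable {M}

theorem zh_coc {i : ℕ} (φ : ZH R M i) :
    (ModuleCat.ofHom φ.1 : ModuleCat.of A M ⟶ R.cocomplex.X i) ≫ R.cocomplex.d i (i + 1) = 0 :=
  ModuleCat.hom_ext φ.2

/-- The class of a cocycle in `Ext`. -/
noncomputable def extCls (i : ℕ) : ZH R M i →ₗ[A] Ext.{u} (ModuleCat.of A M) (ModuleCat.of A N) i where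
  toFun φ := R.extMk (ModuleCat.ofHom φ.1) (i + 1) rfl (zh_coc R φ)
  map_add' φ ψ := by
    rw [InjectiveResolution.add_extMk]
    rfl
  map_smul' a φ := by
    rw [RingHom.id_apply, smul_extMk]
    rfl

theorem extCls_surjective (i : ℕ) : Function.Surjective (extCls R (M := M) i) := by
  intro α
  obtain ⟨f, hf, rfl⟩ := R.extMk_surjective α (i + 1) rfl
  exact ⟨⟨f.hom, congrArg ModuleCat.Hom.hom hf⟩, rfl⟩

theorem extCls_eq_zero_iff (p i : ℕ) (hp : (ComplexShape.up ℕ).prev i = p) (φ : ZH R M i) :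
    extCls R i φ = 0 ↔ ∃ ψ : M →ₗ[A] R.cocomplex.X p, (dl R p i).comp ψ = φ.1 := by
  constructor
  · intro h
    obtain ⟨g, hg⟩ := exists_of_extMk_eq_zero R p i hp _ (zh_coc R φ) h
    exact ⟨g.hom, congrArg ModuleCat.Hom.hom hg⟩
  · rintro ⟨ψ, hψ⟩
    cases i with
    | zero =>
      have h0 : φ = 0 := by
        apply Subtype.ext
        rw [← hψ]
        have hd : R.cocomplex.d p 0 = 0 := R.cocomplex.shape p 0 (by simp)
        change (R.cocomplex.d p 0).hom.comp ψ = 0
        rw [hd]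
        exact LinearMap.zero_comp _
      rw [h0, map_zero]
    | succ i =>
      obtain rfl : i = p := by simpa using hp
      exact (R.extMk_eq_zero_iff _ _ rfl (zh_coc R φ) i rfl).2 ⟨ModuleCat.ofHom ψ, ModuleCat.hom_ext hψ⟩

/-- Two surjections with the same kernel. -/
theorem nonempty_equiv_of_surjective {Z P Q : Type u} [AddCommGroup Z] [AddCommGroup P] [AddCommGroup Q]
    [Module A Z] [Module A P] [Module A Q] (f : Z →ₗ[A] P) (g : Z →ₗ[A] Q) (hf : Function.Surjective f)
    (hg : Function.Surjective g) (h : ∀ z, f z = 0 ↔ g z = 0) : Nonempty (P ≃ₗ[A] Q) :=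
  ⟨(LinearMap.quotKerEquivOfSurjective f hf).symm ≪≫ₗ
    Submodule.quotEquivOfEq _ _ (by ext z; exact h z) ≪≫ₗ LinearMap.quotKerEquivOfSurjective g hg⟩

end Alg

variable {X : Scheme.{u}}

/-- The complex computing the local Ext sheaves. -/
noncomputable abbrev KH (F : X.Modules) {G : X.Modules} (R : InjectiveResolution G) :
    CochainComplex X.Modules ℕ :=
  ((homFunctor F).mapHomologicalComplex (ComplexShape.up ℕ)).obj R.cocomplex

/-- The homomorphism on sections over `V` attached to a section of the sheaf Hom. -/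
noncomputable def evH (F N : X.Modules) (V : X.Opens) :
    Γ(homSheaf F N, V) →ₗ[Γ(X, V)] (Γ(F, V) →ₗ[Γ(X, V)] Γ(N, V)) where
  toFun t := comp t V le_rfl
  map_add' s t := comp_add s t V le_rfl
  map_smul' a t := comp_self_smul a t

theorem evH_map (F : X.Modules) {N N' : X.Modules} (φ : N ⟶ N') (V : X.Opens)
    (t : Γ(homSheaf F N, V)) : evH F N' V ((homMap F φ).app V t) = (appLin φ V).comp (evH F N V t) := rfl

theorem evH_injective {F : X.Modules} (hF : Coh.IsQCoh F) (N : X.Modules) {V : X.Opens}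
    (hV : IsAffineOpen V) : Function.Injective (evH F N V) := fun _ _ h =>
  comp_injective hF hV fun m => LinearMap.congr_fun h m

theorem evH_surjective {F : X.Modules} (hF : Coh.IsQCoh F) (N : X.Modules) {V : X.Opens}
    (hV : IsAffineOpen V) : Function.Surjective (evH F N V) := fun φ => exists_comp_eq hF hV φ

section Res

variable [IsLocallyNoetherian X] {F G : X.Modules} (hF : Coh.IsCoh F)
  (R : InjectiveResolution G) (hR : ∀ n, Coh.IsQCoh (R.cocomplex.X n))

include hF hR in
theorem isQCoh_KH (n : ℕ) : Coh.IsQCoh ((KH F R).X n) := isQCoh_hom hF (hR n)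

include hF hR in
theorem isQCoh_homology (i : ℕ) : Coh.IsQCoh ((KH F R).homology i) :=
  Cox.isQCoh_homology _ (isQCoh_KH hF R hR) i

variable {V : X.Opens} (hV : IsAffineOpen V)

include hF in
theorem exists_evH (i : ℕ) (φ : ZH (secRes R hR hV) Γ(F, V) i) :
    ∃ t : Cox.Z (KH F R) i V, evH F (R.cocomplex.X i) V t.1 = φ.1 := by
  obtain ⟨t, ht⟩ := evH_surjective hF.1 (R.cocomplex.X i) hV φ.1
  refine ⟨⟨t, ?_⟩, ht⟩
  change (homMap F (R.cocomplex.d i (i + 1))).app V t = 0
  apply evH_injective hF.1 (R.cocomplex.X (i + 1)) hV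
  rw [evH_map, ht, map_zero]
  exact φ.2

/-- Cocycles on sections. -/
noncomputable def zEquiv (i : ℕ) : Cox.Z (KH F R) i V ≃ₗ[Γ(X, V)] ZH (secRes R hR hV) Γ(F, V) i :=
  LinearEquiv.ofBijective
    (((evH F (R.cocomplex.X i) V).comp (Cox.Z (KH F R) i V).subtype).codRestrict
      (ZH (secRes R hR hV) Γ(F, V) i) (fun t => by
        have h := evH_map F (R.cocomplex.d i (i + 1)) V t.1
        have h0 : (homMap F (R.cocomplex.d i (i + 1))).app V t.1 = 0 := t.2
        rw [h0, map_zero] at h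
        exact h.symm))
    ⟨fun a b h => Subtype.ext (evH_injective hF.1 _ hV (congrArg Subtype.val h)), fun φ => by
      obtain ⟨t, ht⟩ := exists_evH hF R hR hV i φ
      exact ⟨t, Subtype.ext ht⟩⟩

theorem zEquiv_apply (i : ℕ) (t : Cox.Z (KH F R) i V) :
    (zEquiv hF R hR hV i t).1 = evH F (R.cocomplex.X i) V t.1 := rfl

theorem cls_eq_zero_iff (p i : ℕ) (hp : (ComplexShape.up ℕ).prev i = p) (t : Cox.Z (KH F R) i V) :
    Cox.cls (KH F R) i V t = 0 ↔ ∃ ψ : Γ(F, V) →ₗ[Γ(X, V)] (secRes R hR hV).cocomplex.X p,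
        (dl (secRes R hR hV) p i).comp ψ = (zEquiv hF R hR hV i t).1 := by
  rw [Cox.cls_eq_zero_iff (KH F R) (isQCoh_KH hF R hR) p i hp hV]
  constructor
  · rintro ⟨k, hk⟩
    refine ⟨evH F (R.cocomplex.X p) V k, ?_⟩
    rw [zEquiv_apply, ← hk]
    exact (evH_map F (R.cocomplex.d p i) V k).symm
  · rintro ⟨ψ, hd⟩
    obtain ⟨k, hk⟩ := evH_surjective hF.1 (R.cocomplex.X p) hV ψ
    refine ⟨k, ?_⟩
    apply evH_injective hF.1 (R.cocomplex.X i) hV
    refine (evH_map F (R.cocomplex.d p i) V k).trans ?_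
    rw [hk]
    exact hd

include hF hR hV in
/-- Sections over an affine open of the local Ext sheaf. -/
theorem nonempty_homology_equiv (i : ℕ) : Nonempty (Γ((KH F R).homology i, V) ≃ₗ[Γ(X, V)]
    Ext.{u} (ModuleCat.of Γ(X, V) Γ(F, V)) (ModuleCat.of Γ(X, V) Γ(G, V)) i) := by
  refine nonempty_equiv_of_surjective (Cox.cls (KH F R) i V)
    ((extCls (N := Γ(G, V)) (secRes R hR hV) i).comp (zEquiv hF R hR hV i).toLinearMap)
    (Cox.cls_surjective (KH F R) (isQCoh_KH hF R hR) i hV)
    ((extCls_surjective (N := Γ(G, V)) (secRes R hR hV) i).comp (zEquiv hF R hR hV i).surjective) fun t => ?_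
  rw [cls_eq_zero_iff hF R hR hV _ i rfl t]
  exact (extCls_eq_zero_iff (N := Γ(G, V)) (secRes R hR hV) _ i rfl _).symm

end Res

section Functor

variable (F : X.Modules) [ModSite.HasSheafHom (O := X.sheaf) F]

/-- The functor whose derived functors are the frozen local Ext sheaves. -/
noncomputable def SH : X.Modules ⥤ X.Modules := ModSite.sheafHom (O := X.sheaf) F

instance : (SH F).Additive := inferInstanceAs ((ModSite.sheafHom (O := X.sheaf) F).Additive)

/-- The two functors `Hom(F, -)`. -/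
noncomputable def functorIso : SH F ≅ homFunctor F := K50.SectOn.sheafHomIso F

/-- `ℰxt` as the cohomology of the complex of an injective resolution. -/
theorem nonempty_iso {G : X.Modules}
    [HasInjectiveResolutions (ModSite.Mod X.sheaf)] (R : InjectiveResolution G) (i : ℕ) :
    Nonempty ((ModSite.extSh (O := X.sheaf) F i).obj G ≅ (KH F R).homology i) := by
  have hI : HasInjectiveResolutions X.Modules := inferInstanceAs (HasInjectiveResolutions (ModSite.Mod X.sheaf))
  have e : ((SH F).rightDerived i).obj G ≅ (KH F R).homology i :=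
    R.isoRightDerivedObj (SH F) i ≪≫
      (HomologicalComplex.homologyFunctor X.Modules (ComplexShape.up ℕ) i).mapIso
        ((NatIso.mapHomologicalComplex (functorIso F) (ComplexShape.up ℕ)).app R.cocomplex)
  exact ⟨e⟩

variable [IsLocallyNoetherian X] [HasInjectiveResolutions (ModSite.Mod X.sheaf)] {F}

/-- The local Ext sheaf is quasi-coherent. -/
theorem isQCoh_extSh (hF : Coh.IsCoh F) {G : X.Modules} (hG : Coh.IsQCoh G) (i : ℕ) :
    Coh.IsQCoh ((ModSite.extSh (O := X.sheaf) F i).obj G) := by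
  obtain ⟨R, hR⟩ := exists_res G hG
  obtain ⟨e⟩ := nonempty_iso F R i
  exact Groth.Agent.PerfA.QCohSerre.isQCoh_of_iso e.symm (isQCoh_homology hF R hR i)

/-- An isomorphism of modules is linear on sections. -/
noncomputable def isoSec {M N : X.Modules} (e : M ≅ N) (V : X.Opens) : Γ(M, V) ≃ₗ[Γ(X, V)] Γ(N, V) :=
  ((secF V).mapIso e).toLinearEquiv

/-- `Γ(V, ℰxt^i(F, G)) = Ext^i(F(V), G(V))` for `V` affine. -/
theorem nonempty_sections_equiv (hF : Coh.IsCoh F) {G : X.Modules} (hG : Coh.IsQCoh G) (i : ℕ) {V : X.Opens}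
    (hV : IsAffineOpen V) : Nonempty (Γ((ModSite.extSh (O := X.sheaf) F i).obj G, V) ≃ₗ[Γ(X, V)]
      Ext.{u} (ModuleCat.of Γ(X, V) Γ(F, V)) (ModuleCat.of Γ(X, V) Γ(G, V)) i) := by
  obtain ⟨R, hR⟩ := exists_res G hG
  obtain ⟨e⟩ := nonempty_iso F R i
  obtain ⟨e'⟩ := nonempty_homology_equiv hF R hR hV i
  exact ⟨(isoSec e V).trans e'⟩

end Functor

end K78.ExtShAff
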