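import Groth.Agent.Coherent.K78.TorsCx

/-!
# Finiteness of the cohomology of the complex of `J`-torsion homomorphisms
-/

set_option autoImplicit false
universe u

open CategoryTheory CategoryTheory.Abelian CategoryTheory.Limits

namespace K78.TorsFin

open K78.BassVan K78.TorsCx

section ExtMk

universe v w

variable {C : Type u} [Category.{v} C] [Abelian C] [HasExt.{w} C] {X Y : C} (R : InjectiveResolution Y)

theorem eq_zero_of_extMk (f : X ⟶ R.cocomplex.X 0) (hf : f ≫ R.cocomplex.d 0 1 = 0)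
    (h : R.extMk f 1 rfl hf = 0) : f = 0 := by
  rw [← R.extEquivCohomologyClass.apply_eq_iff_eq, R.extEquivCohomologyClass_extMk,
    R.extEquivCohomologyClass_zero, CochainComplex.HomComplex.CohomologyClass.mk_eq_zero_iff,
    CochainComplex.HomComplex.Cocycle.fromSingleMk_mem_coboundaries_iff _ _ _ _ _ (-1) (by lia)] at h
  obtain ⟨g, hg⟩ := h
  have hz : IsZero (R.cochainComplex.X (-1)) :=
    CochainComplex.isZero_of_isStrictlyGE R.cochainComplex 0 (-1) (by lia)
  rw [hz.eq_of_tgt g 0, zero_comp] at hg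
  rw [← cancel_mono (R.cochainComplexXIso 0 0 rfl).inv, zero_comp]
  exact hg.symm

theorem exists_of_extMk_eq_zero (p i : ℕ) (hp : (ComplexShape.up ℕ).prev i = p) (f : X ⟶ R.cocomplex.X i)
    (hf : f ≫ R.cocomplex.d i (i + 1) = 0) (h : R.extMk f (i + 1) rfl hf = 0) :
    ∃ g : X ⟶ R.cocomplex.X p, g ≫ R.cocomplex.d p i = f := by
  cases i with
  | zero => exact ⟨0, by rw [zero_comp, eq_zero_of_extMk R f hf h]⟩
  | succ i =>
    obtain rfl : i = p := by simpa using hp
    exact (R.extMk_eq_zero_iff _ _ _ _ i rfl).1 h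

end ExtMk

variable {A : Type u} [CommRing A] (J : Ideal A)
  {M : Type u} [AddCommGroup M] [Module A M] {N : Type u} [AddCommGroup N] [Module A N]
  (R : InjectiveResolution (ModuleCat.of A N))

theorem smul_extMk {T : ModuleCat.{u} A} {i : ℕ} (f : T ⟶ R.cocomplex.X i) (m : ℕ) (hm : i + 1 = m)
    (hf : f ≫ R.cocomplex.d i m = 0) (a : A) :
    a • R.extMk f m hm hf = R.extMk (a • f) m hm (by rw [Linear.smul_comp, hf, smul_zero]) := by
  have h1 : a • R.extMk f m hm hf = (Ext.mk₀ (a • 𝟙 T)).comp (R.extMk f m hm hf) (zero_add i) := by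
    rw [Ext.mk₀_smul, Ext.smul_comp, Ext.mk₀_id_comp]
  rw [h1, InjectiveResolution.mk₀_comp_extMk]
  congr 1
  rw [Linear.smul_comp, Category.id_comp]

/-- The torsion cocycles. -/
def ZT (M : Type u) [AddCommGroup M] [Module A M] (i : ℕ) : Submodule A (M →ₗ[A] R.cocomplex.X i) where
  carrier := {φ | KT J φ ∧ (dl R i (i + 1)).comp φ = 0}
  zero_mem' := ⟨KT.zero, LinearMap.comp_zero _⟩
  add_mem' := by
    rintro φ ψ ⟨h1, h2⟩ ⟨h3, h4⟩
    exact ⟨h1.add h3, by rw [LinearMap.comp_add, h2, h4, add_zero]⟩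
  smul_mem' := by
    rintro a φ ⟨⟨n, hn⟩, h2⟩
    exact ⟨⟨n, fun b hb => by rw [smul_comm, hn b hb, smul_zero]⟩, by rw [LinearMap.comp_smul, h2, smul_zero]⟩

theorem res_coc {i : ℕ} (φ : ZT J R M i) :
    (ModuleCat.ofHom (φ.1.comp (tor J M).subtype) : ModuleCat.of A (tor J M) ⟶ R.cocomplex.X i) ≫
      R.cocomplex.d i (i + 1) = 0 :=
  ModuleCat.hom_ext (by
    ext x
    exact LinearMap.congr_fun φ.2.2 x.1)

/-- The class of the restriction of a torsion cocycle to `Γ_J M`. -/
noncomputable def resCls (i : ℕ) : ZT J R M i →ₗ[A] Ext.{u} (ModuleCat.of A (tor J M)) (ModuleCat.of A N) i where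
  toFun φ := R.extMk (ModuleCat.ofHom (φ.1.comp (tor J M).subtype)) (i + 1) rfl (res_coc J R φ)
  map_add' φ ψ := by
    rw [InjectiveResolution.add_extMk]
    rfl
  map_smul' a φ := by
    rw [RingHom.id_apply, smul_extMk]
    rfl

theorem finite_core [IsNoetherianRing A] [Module.Finite A M] [Module.Finite A N] (p i : ℕ)
    (hp : (ComplexShape.up ℕ).prev i = p) (h : ∀ q ∈ ZZ J M, Mu0 N i q)
    {P : Type u} [AddCommGroup P] [Module A P] (c : ZT J R M i →ₗ[A] P) (hc : Function.Surjective c)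
    (hker : ∀ φ : ZT J R M i, (∃ ψ : M →ₗ[A] R.cocomplex.X p, KT J ψ ∧ (dl R p i).comp ψ = φ.1) → c φ = 0) :
    Module.Finite A P := by
  have h1 : LinearMap.ker (resCls J R (M := M) i) ≤ LinearMap.ker c := by
    intro φ hφ
    obtain ⟨g, hg⟩ := exists_of_extMk_eq_zero R p i hp _ (res_coc J R φ) hφ
    exact hker φ (fg_core J R p i hp h φ.1 φ.2.2 φ.2.1 g.hom (congrArg ModuleCat.Hom.hom hg))
  have hfin : Module.Finite A (tor J M) := inferInstance
  have hE : Module.Finite A (Ext.{u} (ModuleCat.of A (tor J M)) (ModuleCat.of A N) i) := inferInstance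
  have hR : Module.Finite A (LinearMap.range (resCls J R (M := M) i)) := inferInstance
  have hQ : Module.Finite A (ZT J R M i ⧸ LinearMap.ker (resCls J R (M := M) i)) :=
    Module.Finite.equiv (LinearMap.quotKerEquivRange (resCls J R (M := M) i)).symm
  refine Module.Finite.of_surjective (Submodule.liftQ _ c h1) ?_
  intro y
  obtain ⟨x, rfl⟩ := hc y
  exact ⟨Submodule.Quotient.mk x, rfl⟩

end K78.TorsFin
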