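import Groth.Agent.Coherent.K78.Cox
import Groth.Agent.Coherent.K78.TorsFin
import Groth.Agent.Coherent.K50.GamQC
import Groth.Agent.CohqB.HomSheafQCoh
import Groth.Agent.CohqB.HomSheafMap
import Groth.Agent.Divis.StalkMod

/-!
# Local Ext sheaves with supports on a locally Noetherian scheme, over affine opens

`T U F = Γ_Z ∘ Hom(F, -)` with `Z` the complement of `U`.
-/

set_option autoImplicit false
universe u

open CategoryTheory CategoryTheory.Limits AlgebraicGeometry Opposite TopologicalSpace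

namespace K78.ExtZ

open K78.QcRes K78.TorsCx K78.TorsFin K50.SectOn K50.GamQC Groth.Agent.CohqB.HomSheaf
  Groth.Agent.Dcoh.MonClosed

variable {X : Scheme.{u}}

/-- Sections with support in the complement of `U` of the sheaf Hom. -/
noncomputable abbrev T (U : X.Opens) (F : X.Modules) : X.Modules ⥤ X.Modules :=
  homFunctor F ⋙ DCoh.gammaZ U.ι

theorem isQCoh_hom [IsLocallyNoetherian X] {F N : X.Modules} (hF : Coh.IsCoh F) (hN : Coh.IsQCoh N) :
    Coh.IsQCoh (homSheaf F N) := by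
  refine isQCoh_homSheaf hF.1 hN fun V hV => ?_
  have hA : IsNoetherianRing Γ(X, V) := IsLocallyNoetherian.component_noetherian ⟨V, hV⟩
  have := Groth.Agent.Divis.StalkMod.finite_sections hF hV
  exact Module.finitePresentation_of_finite _ _

theorem isQCoh_T [IsLocallyNoetherian X] (U : X.Opens) {F N : X.Modules} (hF : Coh.IsCoh F)
    (hN : Coh.IsQCoh N) : Coh.IsQCoh ((T U F).obj N) :=
  isQCoh_gammaZ U.ι _ (isQCoh_hom hF hN)

/-- The homomorphism on sections over `V` attached to a section of `T U F N`. -/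
noncomputable def ev (U : X.Opens) (F N : X.Modules) (V : X.Opens) :
    Γ((T U F).obj N, V) →ₗ[Γ(X, V)] (Γ(F, V) →ₗ[Γ(X, V)] Γ(N, V)) where
  toFun t := comp ((ιG U.ι (homSheaf F N)).app V t) V le_rfl
  map_add' s t := by
    have h : (ιG U.ι (homSheaf F N)).app V (s + t) =
        (ιG U.ι (homSheaf F N)).app V s + (ιG U.ι (homSheaf F N)).app V t :=
      map_add ((ιG U.ι (homSheaf F N)).app V).hom s t
    exact (congrArg (fun z => comp z V le_rfl) h).trans (comp_add _ _ V le_rfl)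
  map_smul' a t := by
    have h : (ιG U.ι (homSheaf F N)).app V (a • t) = a • (ιG U.ι (homSheaf F N)).app V t :=
      (ιG U.ι (homSheaf F N)).app_smul a t
    rw [h, comp_self_smul]
    rfl

theorem ev_apply (U : X.Opens) (F N : X.Modules) (V : X.Opens) (t : Γ((T U F).obj N, V)) :
    ev U F N V t = comp ((ιG U.ι (homSheaf F N)).app V t) V le_rfl := rfl

theorem ev_map (U : X.Opens) (F : X.Modules) {N N' : X.Modules} (φ : N ⟶ N') (V : X.Opens)
    (t : Γ((T U F).obj N, V)) : ev U F N' V (((T U F).map φ).app V t) = (appLin φ V).comp (ev U F N V t) := by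
  have h := ιG_naturality U.ι (homMap F φ)
  have h1 : (ιG U.ι (homSheaf F N')).app V (((T U F).map φ).app V t) =
      (homMap F φ).app V ((ιG U.ι (homSheaf F N)).app V t) :=
    congr((Scheme.Modules.Hom.app $h V) t)
  rw [ev_apply, h1]
  rfl

theorem ev_injective (U : X.Opens) {F : X.Modules} (hF : Coh.IsQCoh F) (N : X.Modules) {V : X.Opens}
    (hV : IsAffineOpen V) : Function.Injective (ev U F N V) := by
  intro s t h
  apply ιG_app_injective U.ι (homSheaf F N) V
  exact comp_injective hF hV fun m => LinearMap.congr_fun h m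

/-- `J` cuts out the complement of `U` in `V`. -/
def Cuts (U V : X.Opens) (J : Ideal Γ(X, V)) : Prop :=
  ∀ x : X, x ∈ V → (x ∉ U ↔ ∀ f ∈ J, x ∉ X.basicOpen (f : Γ(X, V)))

theorem exists_cuts (U : X.Opens) {V : X.Opens} (hV : IsAffineOpen V) : ∃ J : Ideal Γ(X, V), Cuts U V J := by
  let J : Ideal Γ(X, V) :=
    { carrier := {f | X.basicOpen f ≤ U}
      add_mem' := fun {f g} hf hg => by
        refine (fun x hx => ?_ : X.basicOpen (f + g) ≤ U)
        have hxV : x ∈ V := X.basicOpen_le _ hx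
        rw [Scheme.mem_basicOpen _ _ _ hxV, map_add] at hx
        rcases IsLocalRing.isUnit_or_isUnit_of_isUnit_add hx with h | h
        · exact hf ((Scheme.mem_basicOpen _ _ _ hxV).2 h)
        · exact hg ((Scheme.mem_basicOpen _ _ _ hxV).2 h)
      zero_mem' := by
        change X.basicOpen 0 ≤ U
        rw [Scheme.basicOpen_zero]
        exact bot_le
      smul_mem' := fun c f hf => by
        change X.basicOpen (c * f) ≤ U
        rw [Scheme.basicOpen_mul]
        exact inf_le_right.trans hf }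
  refine ⟨J, fun x hx => ⟨fun hxU f hf hxf => hxU (hf hxf), fun h hxU => ?_⟩⟩
  obtain ⟨f, hf, hxf⟩ := hV.exists_basicOpen_le (V := U ⊓ V) ⟨x, hxU, hx⟩ hx
  exact h f (hf.trans inf_le_left) hxf

theorem mem_range_ev [IsLocallyNoetherian X] (U : X.Opens) {F N : X.Modules} (hF : Coh.IsCoh F)
    (hN : Coh.IsQCoh N) {V : X.Opens} (hV : IsAffineOpen V) {J : Ideal Γ(X, V)} (hJ : Cuts U V J)
    (φ : Γ(F, V) →ₗ[Γ(X, V)] Γ(N, V)) : (∃ t, ev U F N V t = φ) ↔ KT J φ := by
  have hA : IsNoetherianRing Γ(X, V) := IsLocallyNoetherian.component_noetherian ⟨V, hV⟩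
  have hfg : J.FG := IsNoetherian.noetherian J
  have hZ : ∀ x : X, x ∈ V → (x ∉ Set.range U.ι.base ↔ ∀ f ∈ J, x ∉ X.basicOpen (f : Γ(X, V))) := by
    intro x hx
    rw [← hJ x hx]
    have : Set.range U.ι.base = (U : Set X) := by simp
    rw [this]
    rfl
  obtain ⟨s, hs⟩ := exists_comp_eq (M := F) (N := N) hF.1 hV φ
  have h1 := mem_range_iff_pow U.ι (homSheaf F N) (isQCoh_hom hF hN) V hV J hfg hZ s
  constructor
  · rintro ⟨t, ht⟩
    have h2 : (ιG U.ι (homSheaf F N)).app V t = s := by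
      apply comp_injective hF.1 hV
      intro m
      rw [hs, ← ht]
      rfl
    obtain ⟨n, hn⟩ := h1.1 ⟨t, h2⟩
    refine ⟨n, fun a ha => ?_⟩
    have h3 := hn a ha
    rw [← hs, ← comp_self_smul, h3]
    rfl
  · rintro ⟨n, hn⟩
    obtain ⟨t, ht⟩ := h1.2 ⟨n, fun a ha => by
      apply comp_injective hF.1 hV
      intro m
      rw [comp_self_smul, hs, hn a ha]
      rfl⟩
    exact ⟨t, (congrArg (fun z => comp z V le_rfl) ht).trans hs⟩

section Res

variable [IsLocallyNoetherian X] (U : X.Opens) {F G : X.Modules} (hF : Coh.IsCoh F)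
  (R : InjectiveResolution G) (hR : ∀ n, Coh.IsQCoh (R.cocomplex.X n))

/-- The complex computing the local Ext sheaves with supports. -/
noncomputable abbrev KZ (F : X.Modules) {G : X.Modules} (R : InjectiveResolution G) :
    CochainComplex X.Modules ℕ :=
  ((T U F).mapHomologicalComplex (ComplexShape.up ℕ)).obj R.cocomplex

include hF hR in
theorem isQCoh_KZ (n : ℕ) : Coh.IsQCoh ((KZ U F R).X n) := isQCoh_T U hF (hR n)

variable {V : X.Opens} (hV : IsAffineOpen V) {J : Ideal Γ(X, V)} (hJ : Cuts U V J)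

include hF hR hJ in
theorem exists_ev (i : ℕ) (φ : ZT J (secRes R hR hV) Γ(F, V) i) :
    ∃ t : Cox.Z (KZ U F R) i V, ev U F (R.cocomplex.X i) V t.1 = φ.1 := by
  obtain ⟨t, ht⟩ := (mem_range_ev U hF (hR i) hV hJ φ.1).2 φ.2.1
  refine ⟨⟨t, ?_⟩, ht⟩
  change ((T U F).map (R.cocomplex.d i (i + 1))).app V t = 0
  apply ev_injective U hF.1 (R.cocomplex.X (i + 1)) hV
  rw [ev_map, ht, map_zero]
  exact φ.2.2

/-- Cocycles on sections are the torsion cocycles. -/
noncomputable def evEquiv (i : ℕ) : Cox.Z (KZ U F R) i V ≃ₗ[Γ(X, V)] ZT J (secRes R hR hV) Γ(F, V) i :=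
  LinearEquiv.ofBijective
    (((ev U F (R.cocomplex.X i) V).comp (Cox.Z (KZ U F R) i V).subtype).codRestrict
      (ZT J (secRes R hR hV) Γ(F, V) i) (fun t => ⟨(mem_range_ev U hF (hR i) hV hJ _).1 ⟨t.1, rfl⟩, by
        have h := ev_map U F (R.cocomplex.d i (i + 1)) V t.1
        have h0 : ((T U F).map (R.cocomplex.d i (i + 1))).app V t.1 = 0 := t.2
        rw [h0, map_zero] at h
        exact h.symm⟩))
    ⟨fun a b h => Subtype.ext (ev_injective U hF.1 _ hV (congrArg Subtype.val h)), fun φ => by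
      obtain ⟨t, ht⟩ := exists_ev U hF R hR hV hJ i φ
      exact ⟨t, Subtype.ext ht⟩⟩

theorem evEquiv_apply (i : ℕ) (t : Cox.Z (KZ U F R) i V) :
    (evEquiv U hF R hR hV hJ i t).1 = ev U F (R.cocomplex.X i) V t.1 := rfl

/-- The class of a torsion cocycle. -/
noncomputable def clsT (i : ℕ) : ZT J (secRes R hR hV) Γ(F, V) i →ₗ[Γ(X, V)] Γ((KZ U F R).homology i, V) :=
  (Cox.cls (KZ U F R) i V).comp (evEquiv U hF R hR hV hJ i).symm.toLinearMap

theorem clsT_surjective (i : ℕ) : Function.Surjective (clsT U hF R hR hV hJ i) :=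
  (Cox.cls_surjective (KZ U F R) (isQCoh_KZ U hF R hR) i hV).comp (evEquiv U hF R hR hV hJ i).symm.surjective

theorem clsT_eq_zero_iff (p i : ℕ) (hp : (ComplexShape.up ℕ).prev i = p)
    (φ : ZT J (secRes R hR hV) Γ(F, V) i) : clsT U hF R hR hV hJ i φ = 0 ↔
      ∃ ψ : Γ(F, V) →ₗ[Γ(X, V)] (secRes R hR hV).cocomplex.X p, KT J ψ ∧
        (dl (secRes R hR hV) p i).comp ψ = φ.1 := by
  obtain ⟨t, rfl⟩ := (evEquiv U hF R hR hV hJ i).surjective φ
  have h1 : clsT U hF R hR hV hJ i (evEquiv U hF R hR hV hJ i t) = Cox.cls (KZ U F R) i V t := by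
    change Cox.cls (KZ U F R) i V ((evEquiv U hF R hR hV hJ i).symm (evEquiv U hF R hR hV hJ i t)) = _
    rw [LinearEquiv.symm_apply_apply]
  rw [h1, Cox.cls_eq_zero_iff (KZ U F R) (isQCoh_KZ U hF R hR) p i hp hV]
  constructor
  · rintro ⟨k, hk⟩
    refine ⟨ev U F (R.cocomplex.X p) V k, (mem_range_ev U hF (hR p) hV hJ _).1 ⟨k, rfl⟩, ?_⟩
    rw [evEquiv_apply, ← hk]
    exact (ev_map U F (R.cocomplex.d p i) V k).symm
  · rintro ⟨ψ, hψ, hd⟩
    obtain ⟨k, hk⟩ := (mem_range_ev U hF (hR p) hV hJ ψ).2 hψ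
    refine ⟨k, ?_⟩
    apply ev_injective U hF.1 (R.cocomplex.X i) hV
    refine (ev_map U F (R.cocomplex.d p i) V k).trans ?_
    rw [hk]
    exact hd

end Res

end K78.ExtZ
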