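import Groth.Agent.Coherent.K78.ExtZ
import Groth.Agent.Coherent.K78.Bridge
import Groth.Agent.CycB.DivFun
import Groth.Agent.Ega1.QCohOfLoc
import Groth.Agent.PerfA.GenPull
import Groth.Prelude.Def_ModSite2

/-!
# Local Ext sheaves with supports: quasi-coherence, coherence and vanishing
-/

set_option autoImplicit false
universe u

open CategoryTheory CategoryTheory.Limits AlgebraicGeometry Opposite TopologicalSpace

namespace K78.ExtZMain

open K78.QcRes K78.TorsCx K78.TorsFin K78.ExtZ K78.BassVan K78.Bridge K50.SectOn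
  Groth.Agent.Dcoh.MonClosed

variable {X : Scheme.{u}}

theorem isCoh_of_finite {M : X.Modules} (hM : Coh.IsQCoh M)
    (h : ∀ x : X, ∃ (V : X.Opens), x ∈ V ∧ IsAffineOpen V ∧ Module.Finite Γ(X, V) Γ(M, V)) : Coh.IsCoh M := by
  refine ⟨hM, Groth.Agent.Ega1.QCohOfLoc.isFiniteType_of_finite M fun x => ?_⟩
  obtain ⟨V, hxV, hV, hfin⟩ := h x
  have := hM
  exact ⟨V, hxV, hV, Groth.Agent.Ega1.LocMod.loc_of_isQuasicoherent M hV, hfin⟩

section Primes

theorem mem_basicOpen_iff {V : X.Opens} (hV : IsAffineOpen V) (x : X) (hx : x ∈ V)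
    (t : Γ(X, V)) : x ∈ X.basicOpen t ↔ t ∉ (hV.primeIdealOf ⟨x, hx⟩).asIdeal := by
  rw [← PrimeSpectrum.mem_basicOpen, ← hV.fromSpec_preimage_basicOpen]
  change _ ↔ hV.fromSpec (hV.primeIdealOf ⟨x, hx⟩) ∈ X.basicOpen t
  rw [hV.fromSpec_primeIdealOf]

theorem cuts_iff {U V : X.Opens} {J : Ideal Γ(X, V)} (hJ : Cuts U V J) (hV : IsAffineOpen V) (x : X)
    (hx : x ∈ V) : x ∉ U ↔ J ≤ (hV.primeIdealOf ⟨x, hx⟩).asIdeal := by
  rw [hJ x hx]
  refine forall_congr' fun f => forall_congr' fun _ => ?_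
  rw [mem_basicOpen_iff hV x hx, not_not]

theorem mem_support_iff (F : X.Modules) (hF : Coh.IsQCoh F) {V : X.Opens} (hV : IsAffineOpen V) (x : X)
    (hx : x ∈ V) : x ∈ CohB1.support F ↔ hV.primeIdealOf ⟨x, hx⟩ ∈ Module.support Γ(X, V) Γ(F, V) := by
  rw [Module.mem_support_iff, ← (K122.RectDepth.stalk_eq F hF hV x hx).2]
  exact not_subsingleton_iff_nontrivial

theorem exists_point {V : X.Opens} (hV : IsAffineOpen V) (q : PrimeSpectrum Γ(X, V)) :
    ∃ (x : X) (hx : x ∈ V), hV.primeIdealOf ⟨x, hx⟩ = q := by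
  obtain ⟨h, h'⟩ := Groth.Agent.CycB.DivFun.primeIdealOf_fromSpec hV q
  exact ⟨_, h, h'⟩

/-- The points of `ZZ J M` are the points outside `U` of the closure of `supp F ∩ U`. -/
theorem ZZ_elim {U V : X.Opens} {J : Ideal Γ(X, V)} (hJ : Cuts U V J) (hV : IsAffineOpen V) (F : X.Modules)
    (hF : Coh.IsQCoh F) (q : PrimeSpectrum Γ(X, V)) (hq : q ∈ ZZ J Γ(F, V)) :
    ∃ (x : X) (hx : x ∈ V), hV.primeIdealOf ⟨x, hx⟩ = q ∧ x ∉ U ∧
      x ∈ closure (CohB1.support F ∩ (U : Set X)) := by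
  obtain ⟨x, hx, rfl⟩ := exists_point hV q
  obtain ⟨h1, p, h2, h3, h4⟩ := hq
  obtain ⟨y, hy, rfl⟩ := exists_point hV p
  refine ⟨x, hx, rfl, (cuts_iff hJ hV x hx).2 h1, ?_⟩
  have h5 : y ⤳ x := (Groth.Agent.CycB.DivFun.primeIdealOf_le_iff hV ⟨y, hy⟩ ⟨x, hx⟩).1 h4
  have h6 : y ∈ CohB1.support F ∩ (U : Set X) := by
    refine ⟨(mem_support_iff F hF hV y hy).2 h2, ?_⟩
    by_contra h7
    exact h3 ((cuts_iff hJ hV y hy).1 h7)
  exact closure_mono (Set.singleton_subset_iff.2 h6) h5.mem_closure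

end Primes

section Main

variable [IsLocallyNoetherian X] (U : X.Opens) {F G : X.Modules} (hF : Coh.IsCoh F)
  (R : InjectiveResolution G) (hR : ∀ n, Coh.IsQCoh (R.cocomplex.X n))

include hF hR in
theorem isQCoh_homology (i : ℕ) : Coh.IsQCoh ((KZ U F R).homology i) :=
  Cox.isQCoh_homology _ (isQCoh_KZ U hF R hR) i

include hF hR in
theorem isCoh_homology (hG : Coh.IsCoh G) (i : ℕ)
    (h : ∀ (V : X.Opens) (hV : IsAffineOpen V) (x : X) (hx : x ∈ V), x ∉ U →
      x ∈ closure (CohB1.support F ∩ (U : Set X)) → Mu0 Γ(G, V) i (hV.primeIdealOf ⟨x, hx⟩)) :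
    Coh.IsCoh ((KZ U F R).homology i) := by
  refine isCoh_of_finite (isQCoh_homology U hF R hR i) fun x => ?_
  obtain ⟨V, hV, hx⟩ := Groth.Agent.Divis.StalkMod.exists_affine x
  refine ⟨V, hx, hV, ?_⟩
  have hA : IsNoetherianRing Γ(X, V) := IsLocallyNoetherian.component_noetherian ⟨V, hV⟩
  have hfF := Groth.Agent.Divis.StalkMod.finite_sections hF hV
  have hfG := Groth.Agent.Divis.StalkMod.finite_sections hG hV
  obtain ⟨J, hJ⟩ := exists_cuts U hV
  refine finite_core J (secRes R hR hV) (M := Γ(F, V)) (N := Γ(G, V)) _ i rfl ?_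
    (clsT U hF R hR hV hJ i) (clsT_surjective U hF R hR hV hJ i) fun φ hφ =>
      (clsT_eq_zero_iff U hF R hR hV hJ _ i rfl φ).2 hφ
  intro q hq
  obtain ⟨y, hy, rfl, hyU, hyc⟩ := ZZ_elim hJ hV F hF.1 q hq
  exact h V hV y hy hyU hyc

include hF hR in
theorem isZero_homology (i : ℕ)
    (h : ∀ (V : X.Opens) (hV : IsAffineOpen V) (x : X) (hx : x ∈ V), x ∉ U →
      x ∈ CohB1.support F → Mu0 Γ(G, V) i (hV.primeIdealOf ⟨x, hx⟩)) :
    IsZero ((KZ U F R).homology i) := by
  refine Groth.Agent.PerfA.GenPull.isZero_of_affine_sections _ (isQCoh_homology U hF R hR i) fun x => ?_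
  obtain ⟨V, hV, hx⟩ := Groth.Agent.Divis.StalkMod.exists_affine x
  refine ⟨V, hV, hx, ?_⟩
  have hA : IsNoetherianRing Γ(X, V) := IsLocallyNoetherian.component_noetherian ⟨V, hV⟩
  have hfF := Groth.Agent.Divis.StalkMod.finite_sections hF hV
  obtain ⟨J, hJ⟩ := exists_cuts U hV
  intro a
  obtain ⟨φ, rfl⟩ := clsT_surjective U hF R hR hV hJ i a
  rw [clsT_eq_zero_iff U hF R hR hV hJ _ i rfl]
  refine van_core J (M := Γ(F, V)) (N := Γ(G, V)) (secRes R hR hV) _ i rfl ?_ φ.1 φ.2.2 φ.2.1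
  intro q hq hJq
  obtain ⟨x, hx, rfl⟩ := exists_point hV q
  exact h V hV x hx ((cuts_iff hJ hV x hx).2 hJq) ((mem_support_iff F hF.1 hV x hx).2 hq)

end Main

section Functor

variable (U : X.Opens) (F : X.Modules) [ModSite.HasSheafHom (O := X.sheaf) F]

/-- The functor whose derived functors are the frozen local Ext sheaves with supports. -/
noncomputable def S : X.Modules ⥤ X.Modules :=
  ModSite.sheafHom (O := X.sheaf) F ⋙
      ModSite.sectOn (C := X.Opens) (J := Opens.grothendieckTopology X) X.sheaf U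

instance : (S U F).Additive :=
  inferInstanceAs ((ModSite.sheafHom (O := X.sheaf) F ⋙
      ModSite.sectOn (C := X.Opens) (J := Opens.grothendieckTopology X) X.sheaf U).Additive)

/-- The two functors `Γ_Z ∘ Hom(F, -)`. -/
noncomputable def functorIso : S U F ≅ T U F :=
  Functor.isoWhiskerRight (K50.SectOn.sheafHomIso F) _ ≪≫ Functor.isoWhiskerLeft _ (sectOnIso U)

/-- `ℰxt_Z` as the cohomology of the complex of an injective resolution. -/
theorem nonempty_iso {G : X.Modules} 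
    [HasInjectiveResolutions (ModSite.Mod X.sheaf)] (R : InjectiveResolution G) (i : ℕ) :
    Nonempty ((ModSite.extZSh (O := X.sheaf) U F i).obj G ≅ (KZ U F R).homology i) := by
  have hI : HasInjectiveResolutions X.Modules := inferInstanceAs (HasInjectiveResolutions (ModSite.Mod X.sheaf))
  have e : ((S U F).rightDerived i).obj G ≅ (KZ U F R).homology i :=
    R.isoRightDerivedObj (S U F) i ≪≫
      (HomologicalComplex.homologyFunctor X.Modules (ComplexShape.up ℕ) i).mapIso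
        ((NatIso.mapHomologicalComplex (functorIso U F) (ComplexShape.up ℕ)).app R.cocomplex)
  exact ⟨e⟩

end Functor

end K78.ExtZMain
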