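import Groth.Agent.QCohCat.K658.Abel
import Groth.Agent.Coherent.K48.QCohEmb
import Groth.Agent.Coherent.K48.QCohInjCrit
import Groth.Agent.Dcoh.MonDual
import Groth.Agent.FormalB.TrSys
import Groth.Agent.FormalB.BCSec
import Groth.Agent.S11155

/-!
# Injective resolutions by quasi-coherent modules on a locally Noetherian scheme

* `exists_res`: a quasi-coherent module has an injective resolution (in the category of all modules)
  with quasi-coherent terms.
* `secF V`: sections over `V` as a functor to modules over `Γ(X, V)`.
* `secRes`: the sections over an affine open of such a resolution form an injective resolution.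
-/

set_option autoImplicit false
universe u

open CategoryTheory CategoryTheory.Limits AlgebraicGeometry Opposite TopologicalSpace

namespace K78.QcRes

variable {X : Scheme.{u}}

theorem exists_res [IsLocallyNoetherian X] (G : X.Modules) (hG : Coh.IsQCoh G) :
    ∃ R : InjectiveResolution G, ∀ n, Coh.IsQCoh (R.cocomplex.X n) := by
  let G' : QCohCat.QCoh X := ⟨G, hG⟩
  have hadd : (QCohCat.isQCoh X).ι.Additive := inferInstance
  have h1 : (QCohCat.isQCoh X).ι.PreservesHomology := inferInstance
  let R := Groth.Agent.Dcoh.MonDual.mapRes (QCohCat.isQCoh X).ι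
    (fun I hI => K48.QCohEmb.injective_of_qcoh I hI) (injectiveResolution G')
  exact ⟨R, fun n => ((injectiveResolution G').cocomplex.X n).property⟩

/-- The map on sections over `V`, linear over `Γ(X, V)`. -/
noncomputable def appLin {M N : X.Modules} (φ : M ⟶ N) (V : X.Opens) : Γ(M, V) →ₗ[Γ(X, V)] Γ(N, V) where
  toFun m := φ.app V m
  map_add' m m' := map_add (φ.app V).hom m m'
  map_smul' r m := φ.app_smul r m

theorem appLin_apply {M N : X.Modules} (φ : M ⟶ N) (V : X.Opens) (m : Γ(M, V)) :
    appLin φ V m = φ.app V m := rfl

/-- Sections over `V`, as a functor to modules over `Γ(X, V)`. -/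
noncomputable def secF (V : X.Opens) : X.Modules ⥤ ModuleCat.{u} Γ(X, V) where
  obj M := ModuleCat.of Γ(X, V) Γ(M, V)
  map φ := ModuleCat.ofHom (appLin φ V)
  map_id _ := rfl
  map_comp _ _ := rfl

instance (V : X.Opens) : (secF V).Additive where
  map_add {_ _ _ _} := rfl

theorem secF_map_apply (V : X.Opens) {M N : X.Modules} (φ : M ⟶ N) (m : Γ(M, V)) :
    ((secF V).map φ).hom m = φ.app V m := rfl

section Inj

variable [IsLocallyNoetherian X]

theorem injective_sections (I : X.Modules) (hI : Injective I) (hq : Coh.IsQCoh I) {V : X.Opens}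
    (hV : IsAffineOpen V) : Module.Injective Γ(X, V) Γ(I, V) :=
  K48.QCohInjCrit.injective_sections_of_stalks I hq (fun x => Groth.Agent.S11155.result I hI x) hV

theorem injective_secF (I : X.Modules) (hI : Injective I) (hq : Coh.IsQCoh I) {V : X.Opens}
    (hV : IsAffineOpen V) : Injective ((secF V).obj I) := by
  have := injective_sections I hI hq hV
  exact (Module.injective_iff_injective_object _ _).1 this

end Inj

section Res

variable {G : X.Modules} (R : InjectiveResolution G) (hR : ∀ n, Coh.IsQCoh (R.cocomplex.X n))
  {V : X.Opens} (hV : IsAffineOpen V)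

include hR hV in
theorem exists_d_eq (n : ℕ) (z : Γ(R.cocomplex.X (n + 1), V))
    (hz : (R.cocomplex.d (n + 1) (n + 2)).app V z = 0) :
    ∃ y : Γ(R.cocomplex.X n, V), (R.cocomplex.d n (n + 1)).app V y = z :=
  Groth.Agent.FormalB.TrSys.exists_of_exact (hR n) (hR (n + 1)) (hR (n + 2)) _ _ _ (R.exact_succ n) hV z hz

/-- The sections over an affine open of a resolution with quasi-coherent terms. -/
noncomputable def secRes [IsLocallyNoetherian X] : InjectiveResolution ((secF V).obj G) where
  cocomplex := ((secF V).mapHomologicalComplex _).obj R.cocomplex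
  injective n := injective_secF _ (R.injective n) (hR n) hV
  ι := (CochainComplex.fromSingle₀Equiv _ _).symm ⟨(secF V).map (R.ι.f 0), by
    change (secF V).map (R.ι.f 0) ≫ (secF V).map (R.cocomplex.d 0 1) = 0
    rw [← (secF V).map_comp, R.ι_f_zero_comp_complex_d, (secF V).map_zero]⟩
  quasiIso := ⟨fun n => by
    cases n with
    | zero =>
      rw [CochainComplex.quasiIsoAt₀_iff, ShortComplex.quasiIso_iff_of_zeros]
      · have hS : (ShortComplex.mk ((secF V).map (R.ι.f 0)) ((secF V).map (R.cocomplex.d 0 1))
            (by rw [← (secF V).map_comp, R.ι_f_zero_comp_complex_d, (secF V).map_zero])).Exact ∧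
              Mono (ShortComplex.mk ((secF V).map (R.ι.f 0)) ((secF V).map (R.cocomplex.d 0 1))
            (by rw [← (secF V).map_comp, R.ι_f_zero_comp_complex_d, (secF V).map_zero])).f := by
          constructor
          · rw [ShortComplex.moduleCat_exact_iff]
            intro z hz
            exact Groth.Agent.FormalB.BC.exists_ι_eq R V z hz
          · rw [ModuleCat.mono_iff_injective]
            exact Groth.Agent.FormalB.BC.injective_ι R V
        refine (ShortComplex.exact_and_mono_f_iff_of_iso ?_).2 hS
        refine ShortComplex.isoMk (Iso.refl _) (Iso.refl _) (Iso.refl _) ?_ ?_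
        · refine (Category.id_comp _).trans (Eq.trans ?_ (Category.comp_id _).symm)
          exact (CochainComplex.fromSingle₀Equiv_symm_apply_f_zero
            (C := ((secF V).mapHomologicalComplex _).obj R.cocomplex) (X := (secF V).obj G) _ _).symm
        · exact (Category.id_comp _).trans (Category.comp_id _).symm
      · rfl
      · rfl
      · exact HomologicalComplex.shape (((secF V).mapHomologicalComplex _).obj R.cocomplex) 0 0 (by simp)
    | succ n =>
      rw [quasiIsoAt_iff_exactAt]
      · rw [HomologicalComplex.exactAt_iff' _ n (n + 1) (n + 2) (by simp) (by simp),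
          ShortComplex.moduleCat_exact_iff]
        intro z hz
        exact exists_d_eq R hR hV n z hz
      · apply CochainComplex.exactAt_succ_single_obj⟩

theorem secRes_X [IsLocallyNoetherian X] (n : ℕ) :
    (secRes R hR hV).cocomplex.X n = ModuleCat.of Γ(X, V) Γ(R.cocomplex.X n, V) := rfl

theorem secRes_d [IsLocallyNoetherian X] (i j : ℕ) :
    (secRes R hR hV).cocomplex.d i j = (secF V).map (R.cocomplex.d i j) := rfl

end Res

end K78.QcRes
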