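import Groth.Agent.Coherent.K78.BassVan
import Groth.Prelude.Def_DRing3
import Mathlib.RingTheory.Filtration
import Mathlib.CategoryTheory.Abelian.Injective.Ext

/-!
# The complex of `J`-torsion homomorphisms into an injective resolution

`A` Noetherian, `J` an ideal, `M` finite, `R` an injective resolution of `N`.  A homomorphism
`φ : M → R.X i` is *torsion* (`KT`) if it is killed by a power of `J`.

* `van_core`: torsion cocycles are coboundaries of torsion cochains if the Bass numbers `μ^i(q, N)`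
  vanish for `q ∈ V(J) ∩ Supp M`.
* `fg_core`: the same for torsion cocycles whose restriction to `Γ_J M` is a coboundary, if the Bass
  numbers vanish for `q ∈ V(J) ∩ closure (Supp M \ V(J))`.
-/

set_option autoImplicit false
universe u

open CategoryTheory CategoryTheory.Abelian CategoryTheory.Limits

namespace K78.TorsCx

open K78.BassVan

variable {A : Type u} [CommRing A] (J : Ideal A)

section KT

variable {M P : Type u} [AddCommGroup M] [AddCommGroup P] [Module A M] [Module A P]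

/-- killed by a power of `J`. -/
def KT (φ : M →ₗ[A] P) : Prop := ∃ n : ℕ, ∀ a ∈ J ^ n, a • φ = 0

variable {J}

theorem KT.zero : KT J (0 : M →ₗ[A] P) := ⟨0, fun a _ => smul_zero a⟩

theorem KT.add {φ ψ : M →ₗ[A] P} (h : KT J φ) (h' : KT J ψ) : KT J (φ + ψ) := by
  obtain ⟨n, hn⟩ := h
  obtain ⟨m, hm⟩ := h'
  refine ⟨n + m, fun a ha => ?_⟩
  rw [smul_add, hn a (Ideal.pow_le_pow_right (Nat.le_add_right n m) ha),
    hm a (Ideal.pow_le_pow_right (Nat.le_add_left m n) ha), add_zero]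

theorem KT.neg {φ : M →ₗ[A] P} (h : KT J φ) : KT J (-φ) := by
  obtain ⟨n, hn⟩ := h
  exact ⟨n, fun a ha => by rw [smul_neg, hn a ha, neg_zero]⟩

theorem KT.sub {φ ψ : M →ₗ[A] P} (h : KT J φ) (h' : KT J ψ) : KT J (φ - ψ) := by
  rw [sub_eq_add_neg]
  exact h.add h'.neg

theorem KT.comp {Q : Type u} [AddCommGroup Q] [Module A Q] (g : P →ₗ[A] Q) {φ : M →ₗ[A] P} (h : KT J φ) :
    KT J (g.comp φ) := by
  obtain ⟨n, hn⟩ := h
  refine ⟨n, fun a ha => ?_⟩
  rw [← LinearMap.comp_smul, hn a ha, LinearMap.comp_zero]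

theorem KT.precomp {L : Type u} [AddCommGroup L] [Module A L] (g : L →ₗ[A] M) {φ : M →ₗ[A] P} (h : KT J φ) :
    KT J (φ.comp g) := by
  obtain ⟨n, hn⟩ := h
  refine ⟨n, fun a ha => ?_⟩
  rw [← LinearMap.smul_comp, hn a ha, LinearMap.zero_comp]

/-- torsion homomorphisms factor through `M / J^k M`. -/
theorem KT.exists_factor {φ : M →ₗ[A] P} (h : KT J φ) :
    ∃ (k : ℕ) (φ' : (M ⧸ (J ^ k • ⊤ : Submodule A M)) →ₗ[A] P), φ = φ'.comp (Submodule.mkQ _) := by
  obtain ⟨n, hn⟩ := h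
  refine ⟨n, Submodule.liftQ _ φ ?_, (Submodule.liftQ_mkQ _ _ _).symm⟩
  rw [Submodule.smul_le]
  intro a ha m _
  change φ (a • m) = 0
  rw [map_smul]
  exact LinearMap.congr_fun (hn a ha) m

theorem KT.of_factor (k : ℕ) (φ' : (M ⧸ (J ^ k • ⊤ : Submodule A M)) →ₗ[A] P) :
    KT J (φ'.comp (Submodule.mkQ _)) := by
  refine ⟨k, fun a ha => ?_⟩
  ext m
  change a • φ' (Submodule.Quotient.mk m) = 0
  rw [← map_smul]
  have h : (a • (Submodule.Quotient.mk m : M ⧸ (J ^ k • ⊤ : Submodule A M))) = 0 := by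
    rw [← Submodule.Quotient.mk_smul, Submodule.Quotient.mk_eq_zero]
    exact Submodule.smul_mem_smul ha Submodule.mem_top
  rw [h, map_zero]

end KT

section Res

variable {N : ModuleCat.{u} A} (R : InjectiveResolution N)

/-- the differential as a linear map. -/
noncomputable abbrev dl (p i : ℕ) : R.cocomplex.X p →ₗ[A] R.cocomplex.X i := (R.cocomplex.d p i).hom

theorem dl_dl (p i j : ℕ) (x : R.cocomplex.X p) : dl R i j (dl R p i x) = 0 := by
  have h := R.cocomplex.d_comp_d p i j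
  exact congr(ModuleCat.Hom.hom $h x)

theorem dl_injective (p i : ℕ) (hp : (ComplexShape.up ℕ).prev i = p) (T : Type u) [AddCommGroup T] [Module A T]
    (h : Subsingleton (Ext.{u} (ModuleCat.of A T) N i)) (φ : T →ₗ[A] R.cocomplex.X i)
    (hφ : (dl R i (i + 1)).comp φ = 0) : ∃ ψ : T →ₗ[A] R.cocomplex.X p, (dl R p i).comp ψ = φ := by
  have hc : (ModuleCat.ofHom φ : ModuleCat.of A T ⟶ R.cocomplex.X i) ≫ R.cocomplex.d i (i + 1) = 0 :=
    ModuleCat.hom_ext hφ
  cases i with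
  | zero =>
    obtain ⟨g, hg⟩ : ∃ g : ModuleCat.of A T ⟶ N,
        g ≫ (show N ⟶ R.cocomplex.X 0 from R.ι.f 0) = ModuleCat.ofHom φ :=
      ⟨R.isLimitKernelFork.lift (KernelFork.ofι (ModuleCat.ofHom φ) hc),
        R.isLimitKernelFork.fac (KernelFork.ofι (ModuleCat.ofHom φ) hc) WalkingParallelPair.zero⟩
    have hg0 : g = 0 := by
      have h1 : Ext.mk₀ g = 0 := Subsingleton.elim _ _
      rwa [Ext.mk₀_eq_zero_iff] at h1
    refine ⟨0, ?_⟩
    rw [LinearMap.comp_zero]
    have h2 : (ModuleCat.ofHom φ : ModuleCat.of A T ⟶ R.cocomplex.X 0) = 0 := by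
      rw [← hg, hg0, zero_comp]
    exact (congrArg ModuleCat.Hom.hom h2).symm
  | succ i =>
    obtain rfl : i = p := by simpa using hp
    have h1 : R.extMk (ModuleCat.ofHom φ : ModuleCat.of A T ⟶ R.cocomplex.X (i + 1)) (i + 2) rfl hc = 0 :=
      Subsingleton.elim _ _
    rw [R.extMk_eq_zero_iff _ _ _ _ i rfl] at h1
    obtain ⟨g, hg⟩ := h1
    exact ⟨g.hom, congrArg ModuleCat.Hom.hom hg⟩

variable {R} in
theorem van_of_ext (p i : ℕ) (hp : (ComplexShape.up ℕ).prev i = p) {M : Type u} [AddCommGroup M] [Module A M]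
    (h : ∀ k : ℕ, Subsingleton (Ext.{u} (ModuleCat.of A (M ⧸ (J ^ k • ⊤ : Submodule A M))) N i))
    (φ : M →ₗ[A] R.cocomplex.X i) (hφ : (dl R i (i + 1)).comp φ = 0) (hk : KT J φ) :
    ∃ ψ : M →ₗ[A] R.cocomplex.X p, KT J ψ ∧ (dl R p i).comp ψ = φ := by
  obtain ⟨k, φ', rfl⟩ := hk.exists_factor
  obtain ⟨ψ', hψ'⟩ := dl_injective R p i hp _ (h k) φ' (by
    ext x
    exact LinearMap.congr_fun hφ x)
  refine ⟨ψ'.comp (Submodule.mkQ _), KT.of_factor k ψ', ?_⟩
  rw [← LinearMap.comp_assoc, hψ']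

end Res

section Supp

variable [IsNoetherianRing A] {M : Type u} [AddCommGroup M] [Module A M] [Module.Finite A M]

omit [IsNoetherianRing A] in
theorem support_quot (k : ℕ) (q : PrimeSpectrum A)
    (hq : q ∈ Module.support A (M ⧸ (J ^ k • ⊤ : Submodule A M))) : J ≤ q.asIdeal ∧ q ∈ Module.support A M := by
  refine ⟨?_, Module.support_subset_of_surjective (Submodule.mkQ _) (Submodule.mkQ_surjective _) hq⟩
  rw [Module.mem_support_iff_of_finite] at hq
  have h1 : J ^ k ≤ q.asIdeal := by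
    refine le_trans (fun a ha => ?_) hq
    rw [Module.mem_annihilator]
    intro m
    obtain ⟨m, rfl⟩ := Submodule.Quotient.mk_surjective _ m
    rw [← Submodule.Quotient.mk_smul, Submodule.Quotient.mk_eq_zero]
    exact Submodule.smul_mem_smul ha Submodule.mem_top
  exact q.2.le_of_pow_le h1

theorem van_core {N : Type u} [AddCommGroup N] [Module A N] (R : InjectiveResolution (ModuleCat.of A N))
    (p i : ℕ) (hp : (ComplexShape.up ℕ).prev i = p)
    (h : ∀ q ∈ Module.support A M, J ≤ q.asIdeal → Mu0 N i q)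
    (φ : M →ₗ[A] R.cocomplex.X i) (hφ : (dl R i (i + 1)).comp φ = 0) (hk : KT J φ) :
    ∃ ψ : M →ₗ[A] R.cocomplex.X p, KT J ψ ∧ (dl R p i).comp ψ = φ := by
  refine van_of_ext J p i hp (fun k => ?_) φ hφ hk
  refine ext_van N i {q | q ∈ Module.support A M ∧ J ≤ q.asIdeal} ?_ (fun q hq => h q hq.1 hq.2) _ ?_
  · rintro q ⟨h1, h2⟩ q' hq'
    exact ⟨Module.mem_support_mono hq' h1, h2.trans hq'⟩
  · intro q hq
    have h1 := support_quot J k q hq
    exact ⟨h1.2, h1.1⟩

/-- The torsion submodule. -/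
abbrev tor (M : Type u) [AddCommGroup M] [Module A M] : Submodule A M := DRing.torsionSub J M

theorem exists_pow_tor : ∃ n : ℕ, ∀ a ∈ J ^ n, ∀ m ∈ tor J M, a • m = 0 := by
  have hfg : (tor J M).FG := IsNoetherian.noetherian _
  obtain ⟨S, hS⟩ := hfg
  have h1 : ∀ m : M, ∃ n : ℕ, m ∈ S → ∀ a ∈ J ^ n, a • m = 0 := by
    intro m
    by_cases hm : m ∈ S
    · have h2 : m ∈ tor J M := by
        rw [← hS]; exact Submodule.subset_span hm
      obtain ⟨n, hn⟩ := h2
      exact ⟨n, fun _ => hn⟩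
    · exact ⟨0, fun h => absurd h hm⟩
  choose n hn using h1
  refine ⟨S.sup n, fun a ha m hm => ?_⟩
  rw [← hS] at hm
  induction hm using Submodule.span_induction with
  | mem x hx => exact hn x hx a (Ideal.pow_le_pow_right (Finset.le_sup hx) ha)
  | zero => exact smul_zero a
  | add x y _ _ hx hy => rw [smul_add, hx, hy, add_zero]
  | smul c x _ hx => rw [smul_comm, hx, smul_zero]

/-- Artin–Rees. -/
theorem exists_inf_eq_bot : ∃ k : ℕ, (J ^ k • ⊤ : Submodule A M) ⊓ tor J M = ⊥ := by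
  obtain ⟨n₀, hn₀⟩ := exists_pow_tor J (M := M)
  obtain ⟨k, hk⟩ := J.exists_pow_inf_eq_pow_smul (tor J M)
  refine ⟨n₀ + k, ?_⟩
  rw [hk (n₀ + k) (Nat.le_add_left _ _), Nat.add_sub_cancel, eq_bot_iff, Submodule.smul_le]
  intro a ha m hm
  rw [Submodule.mem_bot]
  exact hn₀ a ha m hm.2

/-- A torsion map on `Γ_J M` into an injective module extends to a torsion map on `M`. -/
theorem exists_extend {P : Type u} [AddCommGroup P] [Module A P] (hP : Module.Injective A P)
    (w : tor J M →ₗ[A] P) : ∃ ψ : M →ₗ[A] P, KT J ψ ∧ ψ.comp (tor J M).subtype = w := by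
  obtain ⟨k, hk⟩ := exists_inf_eq_bot J (M := M)
  let f : tor J M →ₗ[A] (M ⧸ (J ^ k • ⊤ : Submodule A M)) := (Submodule.mkQ _).comp (tor J M).subtype
  have hf : Function.Injective f := by
    rw [injective_iff_map_eq_zero]
    intro x hx
    have h1 : (x : M) ∈ (J ^ k • ⊤ : Submodule A M) := (Submodule.Quotient.mk_eq_zero _).1 hx
    have h2 : (x : M) ∈ (J ^ k • ⊤ : Submodule A M) ⊓ tor J M := ⟨h1, x.2⟩
    rw [hk] at h2
    exact Subtype.ext ((Submodule.mem_bot A).1 h2)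
  obtain ⟨g, hg⟩ := hP.out f hf w
  exact ⟨g.comp (Submodule.mkQ _), KT.of_factor k g, LinearMap.ext hg⟩

/-- The set of primes over `J` which are specializations of primes of the support not over `J`. -/
def ZZ (M : Type u) [AddCommGroup M] [Module A M] : Set (PrimeSpectrum A) :=
  {q | J ≤ q.asIdeal ∧ ∃ p ∈ Module.support A M, ¬ J ≤ p.asIdeal ∧ p.asIdeal ≤ q.asIdeal}

theorem tor_quot_eq_zero (m : M ⧸ tor J M) (h : ∃ n : ℕ, ∀ a ∈ J ^ n, a • m = 0) : m = 0 := by
  obtain ⟨m, rfl⟩ := Submodule.Quotient.mk_surjective _ m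
  obtain ⟨n, hn⟩ := h
  obtain ⟨n₀, hn₀⟩ := exists_pow_tor J (M := M)
  rw [Submodule.Quotient.mk_eq_zero]
  refine ⟨n₀ + n, fun a ha => ?_⟩
  rw [pow_add] at ha
  induction ha using Submodule.mul_induction_on' with
  | mem_mul_mem b hb c hc =>
    rw [mul_smul]
    apply hn₀ b hb
    have := hn c hc
    rwa [← Submodule.Quotient.mk_smul, Submodule.Quotient.mk_eq_zero] at this
  | add x _ y _ hx hy => rw [add_smul, hx, hy, add_zero]

theorem support_quot_tor (k : ℕ) :
    Module.support A ((M ⧸ tor J M) ⧸ (J ^ k • ⊤ : Submodule A (M ⧸ tor J M))) ⊆ ZZ J M := by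
  intro q hq
  have h1 := support_quot J k q hq
  refine ⟨h1.1, ?_⟩
  -- an associated prime below `q`
  have h2 : Module.annihilator A (M ⧸ tor J M) ≤ q.asIdeal := by
    have h3 := h1.2
    rw [Module.mem_support_iff_of_finite] at h3
    exact h3
  obtain ⟨p, hp, hpq⟩ := Ideal.exists_minimalPrimes_le h2
  have hpa := Module.associatedPrimes.minimalPrimes_annihilator_subset_associatedPrimes A (M ⧸ tor J M) hp
  have hpp : p.IsPrime := hp.1.1
  refine ⟨⟨p, hpp⟩, ?_, ?_, hpq⟩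
  · refine Module.support_subset_of_surjective (Submodule.mkQ (tor J M)) (Submodule.mkQ_surjective _) ?_
    rw [Module.mem_support_iff_of_finite]
    exact hp.1.2
  · intro hJp
    obtain ⟨-, y, hy⟩ := (Submodule.isAssociatedPrime_iff (N := (⊥ : Submodule A (M ⧸ tor J M)))).1 hpa
    have hy0 : y = 0 := by
      refine tor_quot_eq_zero J y ⟨1, fun a ha => ?_⟩
      rw [pow_one] at ha
      have h4 : a ∈ p := hJp ha
      rw [hy] at h4
      simpa using h4
    apply hpp.ne_top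
    rw [hy, hy0, eq_top_iff]
    intro a _
    simp

theorem fg_core {N : Type u} [AddCommGroup N] [Module A N] (R : InjectiveResolution (ModuleCat.of A N))
    (p i : ℕ) (hp : (ComplexShape.up ℕ).prev i = p) (h : ∀ q ∈ ZZ J M, Mu0 N i q)
    (φ : M →ₗ[A] R.cocomplex.X i) (hφ : (dl R i (i + 1)).comp φ = 0) (hk : KT J φ)
    (w : tor J M →ₗ[A] R.cocomplex.X p) (hw : (dl R p i).comp w = φ.comp (tor J M).subtype) :
    ∃ ψ : M →ₗ[A] R.cocomplex.X p, KT J ψ ∧ (dl R p i).comp ψ = φ := by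
  have hinj : Module.Injective A (R.cocomplex.X p) :=
    Module.injective_module_of_injective_object A _ (inj := R.injective p)
  obtain ⟨ψ₀, hψ₀, hψw⟩ := exists_extend J hinj w
  -- the difference factors through the torsion free quotient
  let χ : M →ₗ[A] R.cocomplex.X i := φ - (dl R p i).comp ψ₀
  have hχ0 : tor J M ≤ LinearMap.ker χ := by
    intro m hm
    have h1 := LinearMap.congr_fun hw ⟨m, hm⟩
    have h2 := LinearMap.congr_fun hψw ⟨m, hm⟩
    change ψ₀ m = w ⟨m, hm⟩ at h2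
    change dl R p i (w ⟨m, hm⟩) = φ m at h1
    change φ m - dl R p i (ψ₀ m) = 0
    rw [h2, h1, sub_self]
  have hχk : KT J χ := hk.sub (hψ₀.comp _)
  have hχc : (dl R i (i + 1)).comp χ = 0 := by
    ext m
    change dl R i (i + 1) (φ m - dl R p i (ψ₀ m)) = 0
    rw [map_sub, dl_dl, sub_zero]
    exact LinearMap.congr_fun hφ m
  let χ' : (M ⧸ tor J M) →ₗ[A] R.cocomplex.X i := Submodule.liftQ _ χ hχ0
  have hχ'k : KT J χ' := by
    obtain ⟨n, hn⟩ := hχk
    refine ⟨n, fun a ha => ?_⟩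
    ext m
    exact LinearMap.congr_fun (hn a ha) m
  have hχ'c : (dl R i (i + 1)).comp χ' = 0 := by
    ext m
    exact LinearMap.congr_fun hχc m
  have hv : ∀ k : ℕ, Subsingleton (Ext.{u} (ModuleCat.of A ((M ⧸ tor J M) ⧸
      (J ^ k • ⊤ : Submodule A (M ⧸ tor J M)))) (ModuleCat.of A N) i) := by
    intro k
    refine ext_van N i (ZZ J M) ?_ h _ (support_quot_tor J k)
    rintro q ⟨h1, p', h2, h3, h4⟩ q' hq'
    exact ⟨h1.trans hq', p', h2, h3, h4.trans hq'⟩
  obtain ⟨ψ', hψ', hd⟩ := van_of_ext J p i hp (M := M ⧸ tor J M) hv χ' hχ'c hχ'k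
  refine ⟨ψ₀ + ψ'.comp (Submodule.mkQ _), hψ₀.add (hψ'.precomp _), ?_⟩
  ext m
  have h1 := LinearMap.congr_fun hd (Submodule.Quotient.mk m)
  change dl R p i (ψ' (Submodule.Quotient.mk m)) = φ m - dl R p i (ψ₀ m) at h1
  change dl R p i (ψ₀ m + ψ' (Submodule.Quotient.mk m)) = φ m
  rw [map_add, h1]
  abel

end Supp

end K78.TorsCx
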